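import Cfsg.Agent.L0.PcCert
import Cfsg.Agent.L0.Dw
import Cfsg.Agent.H3.Mu.U43.Tab

/-! Generated certificate: the `2`-part of a Schur multiplier. -/

set_option autoImplicit false
set_option maxRecDepth 100000

open Cfsg.Agent.L0

namespace Cfsg.Agent.H3.U43.P2

noncomputable def W : List (List ℕ) := [
  dw (nat_lit 4) (nat_lit 15) (nat_lit 8) (nat_lit 0x178a9324),
  dw (nat_lit 4) (nat_lit 15) (nat_lit 7) (nat_lit 0x2090a13),
  dw (nat_lit 4) (nat_lit 15) (nat_lit 8) (nat_lit 0x3b89c70b),
  dw (nat_lit 4) (nat_lit 15) (nat_lit 7) (nat_lit 0x348b7b1),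
  dw (nat_lit 4) (nat_lit 15) (nat_lit 6) (nat_lit 0x854d67),
  dw (nat_lit 4) (nat_lit 15) (nat_lit 8) (nat_lit 0x24bc690),
  dw (nat_lit 4) (nat_lit 15) (nat_lit 7) (nat_lit 0x8909d13),
  dw (nat_lit 4) (nat_lit 15) (nat_lit 7) (nat_lit 0x1a3c414),
  dw (nat_lit 4) (nat_lit 15) (nat_lit 6) (nat_lit 0x854517),
  dw (nat_lit 4) (nat_lit 15) (nat_lit 7) (nat_lit 0x17514b1)]

noncomputable def P : PcP := ⟨nat_lit 2, nat_lit 1, nat_lit 6, nat_lit 0x40810204080040810306042850c1008a183c0132259b00, nat_lit 7, nat_lit 127, nat_lit 12, nat_lit 4095, nat_lit 8, nat_lit 42, nat_lit 5, nat_lit 6⟩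

noncomputable def fu : Fus := ⟨[nat_lit 16, nat_lit 4, nat_lit 2, nat_lit 1, nat_lit 64, nat_lit 16, nat_lit 4, nat_lit 2, nat_lit 1, nat_lit 16, nat_lit 8, nat_lit 4, nat_lit 2, nat_lit 1],
  [nat_lit 2, nat_lit 80, nat_lit 18, nat_lit 1, nat_lit 82, nat_lit 87, nat_lit 85, nat_lit 22, nat_lit 1, nat_lit 104, nat_lit 113, nat_lit 29, nat_lit 1, nat_lit 2],
  [nat_lit 7, nat_lit 7, nat_lit 7, nat_lit 7, nat_lit 8, nat_lit 8, nat_lit 8, nat_lit 8, nat_lit 8, nat_lit 9, nat_lit 9, nat_lit 9, nat_lit 9, nat_lit 9]⟩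

noncomputable def lam : List ℕ := [nat_lit 0x7000000000005000007007007007000000000007006000000000000000007000005000005000000005005000007000006000007007,
  nat_lit 0x5000007007000000007000000000005000007007005005007000007006007000007000007007000000000007000000000005000005006007007007000007,
  nat_lit 0x7000000001000001000,
  nat_lit 0x5000007007007000000000000000000000000007007006007000007006007006006007006007000007007006007000007000007005007006000007007007,
  nat_lit 0x1000007000000000000,
  nat_lit 0x1007000000000,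
  nat_lit 0x1000000000]

noncomputable def bs : List ℕ := [nat_lit 0x1007000001000000000000]

noncomputable def mo : List ℕ := [nat_lit 0x300004021b4bd3d462f130082014d]

noncomputable def cv0 : List ℕ := [nat_lit 0x1000000000000000000000000000000000000000000000000000000000000000000000000,
  nat_lit 0x1000000000000000000000000000000000000000000000000000000000000000000000000000,
  nat_lit 0x2000000000000000000000000000000,
  nat_lit 0x6000000000000000000000000000000000000000000000000000000000000000,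
  nat_lit 0x6000000000000000000000000000000000000000000000000000000000000000000,
  nat_lit 0x6000000000000000000000000000000000000000000000000000,
  nat_lit 0x6000000000000000000000000000000000000000000000000000000000000000000000,
  nat_lit 0x6000000000000000000000000000000000000000000000000000000,
  nat_lit 0x6000000000000000000000000000000000000000000000000000000000,
  nat_lit 0x6000000000000000000000000000000000000000000000000000000000000000000000000000000,
  nat_lit 0x1000000000000000000000000000000006000000000000000000000000000000,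
  nat_lit 0x1000000000000000000000002000000000000000000000000000000000000000000000000000000,
  nat_lit 0x7000000000007000000000000000000000000000000000000000000000000000000000006000000000,
  nat_lit 0x1000000000000000001000000000000000000000000000000000000000000000000000002000000000,
  nat_lit 0x7007000000000000000000000000000000006000000000000000000000000000000000000000000000,
  nat_lit 0x7007000000000000000000000000000006000000000000000000000000000000000000000000000000,
  nat_lit 0x1000000001000000000000000000000000002000000000000000000000000,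
  nat_lit 0x1000000000001000000000000000000000000000000002000000000000000000000000000000000000,
  nat_lit 0x7000007001000000000000000000000000000000006000000000000000000000000000000000000000,
  nat_lit 0x7000007000000001000000000000000000000007007000000000000000006000000000000000000000,
  nat_lit 0x6000000000001000007007000000000000000000000006000000000000000000000000000000000,
  nat_lit 0x6000000001000000007000007000000000000000000000000000006000000000000000000000000,
  nat_lit 0x7007000000007000000007000000007000000000000000000000000000000000000006000000000000,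
  nat_lit 0x1000000000000001000000007000007002000000000000000000000000000000000000000000000000,
  nat_lit 0x7007000000000000007000000000000000000000000000000000000000000000000000000000,
  nat_lit 0x1002001000000000000001001000000001000000000000001000000000000000000001000000000000,
  nat_lit 0x2001001000000000001001001000000000001001000000000001000000000002000000000000000000,
  nat_lit 0x6007006007000000001007007007000000000007007000000000000000000006000000000000000000,
  nat_lit 0x2002000000000001000001000000001001000000000001000000000000000000000002000000000000,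
  nat_lit 0x2003000000000000000001001000001000001001000001000001000000000000001000001000002000,
  nat_lit 0x1002001000000000000000001001000000000001001000001000000007002000000000000000000000,
  nat_lit 0x1001007000000000007000007000001000000007000000000000000000000000000000000000,
  nat_lit 0x2000000000000000000000001000000000000000000000000000000000000000000007000000000000000,
  nat_lit 0x2000000000000000000000000000000000000000000000000000000000000000000000000000000000000000000000,
  nat_lit 0x2000000000000000000000000000000000000001000000000000000000000000000000000001000000000000000,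
  nat_lit 0x7000002000000000000000001000000000000000000000000007000000000000000000000000001000001000000001,
  nat_lit 0x7000000000007000000000007000000000000000007000007000000007000000000000000000000000000000000000,
  nat_lit 0x1001000000000000000000007000001000001000000000000000000000000000000000001000000000,
  nat_lit 0x2000000000000000000000000000000000000000000000000000000000000000000000000000000000000000000000000000000000000,
  nat_lit 0x2000000000000001001000000000000000001000000001000001000000000000000000000000000001000001000000000]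

noncomputable def cc0 : List Con := [
  ⟨nat_lit 1, nat_lit 3, nat_lit 3, [nat_lit 8], [], nthN cv0 (nat_lit 0)⟩,
  ⟨nat_lit 1, nat_lit 4, nat_lit 4, [nat_lit 4], [], nthN cv0 (nat_lit 1)⟩,
  ⟨nat_lit 1, nat_lit 0, nat_lit 0, [nat_lit 4], [], nthN cv0 (nat_lit 2)⟩,
  ⟨nat_lit 0, nat_lit 0, nat_lit 6, [nat_lit 1], [], nthN cv0 (nat_lit 3)⟩,
  ⟨nat_lit 0, nat_lit 1, nat_lit 6, [nat_lit 1], [], nthN cv0 (nat_lit 4)⟩,
  ⟨nat_lit 0, nat_lit 2, nat_lit 5, [nat_lit 2], [], nthN cv0 (nat_lit 5)⟩,
  ⟨nat_lit 0, nat_lit 2, nat_lit 6, [nat_lit 1], [], nthN cv0 (nat_lit 6)⟩,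
  ⟨nat_lit 0, nat_lit 3, nat_lit 5, [nat_lit 2], [], nthN cv0 (nat_lit 7)⟩,
  ⟨nat_lit 0, nat_lit 4, nat_lit 5, [nat_lit 2], [], nthN cv0 (nat_lit 8)⟩,
  ⟨nat_lit 0, nat_lit 5, nat_lit 6, [nat_lit 1], [], nthN cv0 (nat_lit 9)⟩,
  ⟨nat_lit 0, nat_lit 0, nat_lit 4, [nat_lit 4], [], nthN cv0 (nat_lit 10)⟩,
  ⟨nat_lit 1, nat_lit 3, nat_lit 3, [nat_lit 2], [], nthN cv0 (nat_lit 11)⟩,
  ⟨nat_lit 0, nat_lit 0, nat_lit 2, [nat_lit 16], [], nthN cv0 (nat_lit 12)⟩,
  ⟨nat_lit 1, nat_lit 0, nat_lit 0, [nat_lit 16], [], nthN cv0 (nat_lit 13)⟩,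
  ⟨nat_lit 0, nat_lit 0, nat_lit 5, [nat_lit 2], [], nthN cv0 (nat_lit 14)⟩,
  ⟨nat_lit 0, nat_lit 1, nat_lit 5, [nat_lit 2], [], nthN cv0 (nat_lit 15)⟩,
  ⟨nat_lit 1, nat_lit 2, nat_lit 2, [nat_lit 8], [], nthN cv0 (nat_lit 16)⟩,
  ⟨nat_lit 1, nat_lit 2, nat_lit 2, [nat_lit 4], [], nthN cv0 (nat_lit 17)⟩,
  ⟨nat_lit 0, nat_lit 3, nat_lit 4, [nat_lit 4], [], nthN cv0 (nat_lit 18)⟩,
  ⟨nat_lit 0, nat_lit 1, nat_lit 3, [nat_lit 8], [], nthN cv0 (nat_lit 19)⟩,
  ⟨nat_lit 0, nat_lit 1, nat_lit 4, [nat_lit 4], [], nthN cv0 (nat_lit 20)⟩,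
  ⟨nat_lit 0, nat_lit 2, nat_lit 3, [nat_lit 8], [], nthN cv0 (nat_lit 21)⟩,
  ⟨nat_lit 0, nat_lit 1, nat_lit 2, [nat_lit 16], [], nthN cv0 (nat_lit 22)⟩,
  ⟨nat_lit 1, nat_lit 1, nat_lit 1, [nat_lit 2], [], nthN cv0 (nat_lit 23)⟩,
  ⟨nat_lit 0, nat_lit 1, nat_lit 3, [nat_lit 2], [], nthN cv0 (nat_lit 24)⟩,
  ⟨nat_lit 1, nat_lit 1, nat_lit 1, [nat_lit 32], [], nthN cv0 (nat_lit 25)⟩,
  ⟨nat_lit 1, nat_lit 0, nat_lit 0, [nat_lit 8], [], nthN cv0 (nat_lit 26)⟩,
  ⟨nat_lit 0, nat_lit 0, nat_lit 3, [nat_lit 8], [], nthN cv0 (nat_lit 27)⟩,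
  ⟨nat_lit 1, nat_lit 1, nat_lit 1, [nat_lit 16], [], nthN cv0 (nat_lit 28)⟩,
  ⟨nat_lit 1, nat_lit 0, nat_lit 0, [nat_lit 32], [], nthN cv0 (nat_lit 29)⟩,
  ⟨nat_lit 1, nat_lit 1, nat_lit 1, [nat_lit 8], [], nthN cv0 (nat_lit 30)⟩,
  ⟨nat_lit 0, nat_lit 0, nat_lit 2, [nat_lit 8], [], nthN cv0 (nat_lit 31)⟩,
  ⟨nat_lit 2, nat_lit 7, nat_lit 0, [nat_lit 0, nat_lit 0], [], nthN cv0 (nat_lit 32)⟩,
  ⟨nat_lit 2, nat_lit 7, nat_lit 0, [nat_lit 3, nat_lit 3], [], nthN cv0 (nat_lit 33)⟩,
  ⟨nat_lit 2, nat_lit 7, nat_lit 0, [nat_lit 2, nat_lit 2], [], nthN cv0 (nat_lit 34)⟩,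
  ⟨nat_lit 2, nat_lit 7, nat_lit 0, [nat_lit 1, nat_lit 1], [nat_lit 3], nthN cv0 (nat_lit 35)⟩,
  ⟨nat_lit 2, nat_lit 7, nat_lit 0, [nat_lit 1, nat_lit 0], [nat_lit 0, nat_lit 1, nat_lit 3], nthN cv0 (nat_lit 36)⟩,
  ⟨nat_lit 2, nat_lit 7, nat_lit 0, [nat_lit 2, nat_lit 1], [nat_lit 1, nat_lit 2], nthN cv0 (nat_lit 37)⟩,
  ⟨nat_lit 2, nat_lit 8, nat_lit 0, [nat_lit 8, nat_lit 8], [], nthN cv0 (nat_lit 38)⟩,
  ⟨nat_lit 2, nat_lit 8, nat_lit 0, [nat_lit 4, nat_lit 4], [], nthN cv0 (nat_lit 39)⟩]

theorem con0 : allL cc0 (P.conOk fu) = true := by decide +kernel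

noncomputable def cv1 : List ℕ := [nat_lit 0x2000000000000000000000001002001000000000000000001000001000000001000001000000000000000000001000000000000000,
  nat_lit 0x7000002000000000000000000002000002000000000001000000000000000000000000001000001000000000000001000001000000001,
  nat_lit 0x2000000000000000003004001000001000001001001000001000001001000001000001000000000000000000001000000001,
  nat_lit 0x7000000000000000000000000001003001000000000000000007000000000000000000001000001000000000000000000001000000000,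
  nat_lit 0x1002002000007000000000000000001000001000000000000001000000000000000000001000000000,
  nat_lit 0x2000000000000000000000000000000000000001000000000000000000007000000000000000000000000000000000000000000000000000000000000,
  nat_lit 0x2000000000000000000000000000000000000000007000000000000000000001000000000000000000000000000000000000000000000000000000000000,
  nat_lit 0x7000002000000000000000000000000000000000003001001000001000000000002001000000000000001001000000001001000000001000000000000000,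
  nat_lit 0x7000000002000000000000000000000000000000003004000000001001001001001000002001000001000001001000007000000000002000001001001001,
  nat_lit 0x2000000000000000000000000000004004002001000001000002001001001000000002002001000000001000001001000001000001001001]

noncomputable def cc1 : List Con := [
  ⟨nat_lit 2, nat_lit 8, nat_lit 0, [nat_lit 7, nat_lit 7], [], nthN cv1 (nat_lit 0)⟩,
  ⟨nat_lit 2, nat_lit 8, nat_lit 0, [nat_lit 6, nat_lit 6], [nat_lit 8], nthN cv1 (nat_lit 1)⟩,
  ⟨nat_lit 2, nat_lit 8, nat_lit 0, [nat_lit 5, nat_lit 5], [], nthN cv1 (nat_lit 2)⟩,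
  ⟨nat_lit 2, nat_lit 8, nat_lit 0, [nat_lit 7, nat_lit 4], [nat_lit 4, nat_lit 7, nat_lit 8], nthN cv1 (nat_lit 3)⟩,
  ⟨nat_lit 2, nat_lit 8, nat_lit 0, [nat_lit 7, nat_lit 6], [nat_lit 6, nat_lit 7], nthN cv1 (nat_lit 4)⟩,
  ⟨nat_lit 2, nat_lit 9, nat_lit 0, [nat_lit 12, nat_lit 12], [], nthN cv1 (nat_lit 5)⟩,
  ⟨nat_lit 2, nat_lit 9, nat_lit 0, [nat_lit 13, nat_lit 13], [], nthN cv1 (nat_lit 6)⟩,
  ⟨nat_lit 2, nat_lit 9, nat_lit 0, [nat_lit 11, nat_lit 11], [nat_lit 13], nthN cv1 (nat_lit 7)⟩,
  ⟨nat_lit 2, nat_lit 9, nat_lit 0, [nat_lit 10, nat_lit 10], [nat_lit 13], nthN cv1 (nat_lit 8)⟩,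
  ⟨nat_lit 2, nat_lit 9, nat_lit 0, [nat_lit 9, nat_lit 9], [], nthN cv1 (nat_lit 9)⟩]

theorem con1 : allL cc1 (P.conOk fu) = true := by decide +kernel

noncomputable def CV : List (List ℕ) := [cv0, cv1]

noncomputable def MU : List (List ℕ) := [[nat_lit 0x280291a9041a00049000165200000400],
  [nat_lit 0,
  nat_lit 0x90000280291a9209800049000124000000440],
  [nat_lit 0,
  nat_lit 0,
  nat_lit 0x1c00011d739647900e1b2406000442],
  [nat_lit 0,
  nat_lit 0x7,
  nat_lit 0x1c0001a081d01d50081b1400000488,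
  nat_lit 0x169c20000000028b2b0265a30061a28060001d1],
  [nat_lit 0x280001c000402610811202005920000055c,
  nat_lit 0x100001400014081f012a00804de00000ca8,
  nat_lit 0x1c000100000008001008dc000005f8,
  nat_lit 0x80000800040233301760280c42000009ec,
  nat_lit 0x18000000006434eae43602e12f206000118],
  [nat_lit 0x2000014000603509e5cb03e0d8006000c16,
  nat_lit 0x100001c000703903e5e703e026e0600054e,
  nat_lit 0x1000000000603108656f02e19920600015e,
  nat_lit 0x200000800020111900bf0101614000008ce,
  nat_lit 0x8000000000000000048,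
  nat_lit 0x30000080000c0702655f0061ad6060009da],
  [nat_lit 0x100000800040241165140260a2206000890,
  nat_lit 0x10000000006433088057030109200000032,
  nat_lit 0x100000800040241165140260ea206000890,
  nat_lit 0x38,
  nat_lit 0x1c0,
  nat_lit 0x60264020061b5806000094,
  nat_lit 0x30000080000004030024000156e00000990]]

noncomputable def lv : List (List (List ℕ) × ℕ × List (ℕ × List ℕ)) := [
  ([[nat_lit 1], [nat_lit 2], [nat_lit 3], [nat_lit 4], [nat_lit 5], [nat_lit 6]], nat_lit 0, [(nat_lit 0, []), (nat_lit 3, [nat_lit 1, nat_lit 3, nat_lit 2, nat_lit 0]), (nat_lit 6, [nat_lit 3, nat_lit 2, nat_lit 1]), (nat_lit 14, [nat_lit 0, nat_lit 1]), (nat_lit 16, [nat_lit 0, nat_lit 4]), (nat_lit 17, [nat_lit 5, nat_lit 4, nat_lit 1]), (nat_lit 27, [nat_lit 4, nat_lit 3, nat_lit 2]), (nat_lit 34, [nat_lit 0, nat_lit 2]), (nat_lit 39, [nat_lit 2, nat_lit 0, nat_lit 0]), (nat_lit 44, [nat_lit 1, nat_lit 0]), (nat_lit 54, [nat_lit 5, nat_lit 0]), (nat_lit 57, [nat_lit 3, nat_lit 2]), (nat_lit 64, [nat_lit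 1, nat_lit 2]), (nat_lit 69, [nat_lit 5, nat_lit 2, nat_lit 1, nat_lit 0]), (nat_lit 73, [nat_lit 4]), (nat_lit 77, [nat_lit 5, nat_lit 0, nat_lit 1]), (nat_lit 83, [nat_lit 1, nat_lit 3]), (nat_lit 88, [nat_lit 3, nat_lit 1, nat_lit 0]), (nat_lit 93, [nat_lit 2]), (nat_lit 94, [nat_lit 5, nat_lit 4]), (nat_lit 106, [nat_lit 1, nat_lit 0, nat_lit 2]), (nat_lit 109, [nat_lit 1, nat_lit 2, nat_lit 0]), (nat_lit 111, [nat_lit 5, nat_lit 3, nat_lit 0]), (nat_lit 112, [nat_lit 5, nat_lit 2, nat_lit 0]), (nat_lit 124, [nat_lit 5, nat_lit 0, nat_lit 0]), (nat_lit 125, [nat_lit 0, nat_lit 2, nat_lit 1]), (nat_lit 126, [nat_lit 3, nat_lit 2, nat_lit 0]), (nat_lit 133, [nat_lit 5, nat_lit 1]), (nat_lit 134, [nat_lit 2, nat_lit 0, nat_lit 4]), (nat_lit 141, [nat_lit 3]), (nat_lit 146, [nat_lit 2, nat_lit 1, nat_lit 0]), (nat_lit 154, [nat_lit 5, nat_lit 1, nat_lit 0]), (nat_lit 155, [nat_lit 0]), (nat_lit 161, [nat_lit 2, nat_lit 1]), (nat_lit 163, [nat_lit 2, nat_lit 3, nat_lit 0]), (nat_lit 165, [nat_lit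 5, nat_lit 4, nat_lit 2]), (nat_lit 170, [nat_lit 4, nat_lit 2, nat_lit 0]), (nat_lit 180, [nat_lit 2, nat_lit 3]), (nat_lit 183, [nat_lit 5]), (nat_lit 189, [nat_lit 2, nat_lit 3, nat_lit 1]), (nat_lit 192, [nat_lit 3, nat_lit 1]), (nat_lit 193, [nat_lit 1, nat_lit 3, nat_lit 2]), (nat_lit 196, [nat_lit 0, nat_lit 1, nat_lit 2]), (nat_lit 202, [nat_lit 5, nat_lit 0, nat_lit 2]), (nat_lit 207, [nat_lit 0, nat_lit 0]), (nat_lit 209, [nat_lit 5, nat_lit 1, nat_lit 2, nat_lit 0]), (nat_lit 210, [nat_lit 5, nat_lit 1, nat_lit 2]), (nat_lit 212, [nat_lit 5, nat_lit 2, nat_lit 1]), (nat_lit 215, [nat_lit 3, nat_lit 0, nat_lit 1]), (nat_lit 216, [nat_lit 4, nat_lit 3, nat_lit 0]), (nat_lit 221, [nat_lit 5, nat_lit 3]), (nat_lit 229, [nat_lit 0, nat_lit 0, nat_lit 0]), (nat_lit 230, [nat_lit 3, nat_lit 0]), (nat_lit 234, [nat_lit 1]), (nat_lit 235, [nat_lit 2, nat_lit 0]), (nat_lit 239, [nat_lit 4, nat_lit 2]), (nat_lit 242, [nat_lit 4, nat_lit 1]), (nat_lit 256, [nat_lit 4, nat_lit 0]), (nat_lit 257,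 [nat_lit 0, nat_lit 3]), (nat_lit 258, [nat_lit 1, nat_lit 3, nat_lit 0]), (nat_lit 262, [nat_lit 4, nat_lit 2, nat_lit 3]), (nat_lit 266, [nat_lit 5, nat_lit 2]), (nat_lit 269, [nat_lit 4, nat_lit 3]), (nat_lit 270, [nat_lit 0, nat_lit 0, nat_lit 1])]),
  ([[nat_lit 0]], nat_lit 13, [(nat_lit 13, []), (nat_lit 108, [nat_lit 0])])]

theorem rel0 : P.relRow (dT T W) B 0 = true := by decide +kernel
theorem rel1 : P.relRow (dT T W) B 1 = true := by decide +kernel
theorem rel2 : P.relRow (dT T W) B 2 = true := by decide +kernel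
theorem rel3 : P.relRow (dT T W) B 3 = true := by decide +kernel
theorem rel4 : P.relRow (dT T W) B 4 = true := by decide +kernel
theorem rel5 : P.relRow (dT T W) B 5 = true := by decide +kernel
theorem rel6 : P.relRow (dT T W) B 6 = true := by decide +kernel
theorem fus0 : P.fusOk (dT T W) B fu 0 = true := by decide +kernel
theorem fus1 : P.fusOk (dT T W) B fu 1 = true := by decide +kernel
theorem fus2 : P.fusOk (dT T W) B fu 2 = true := by decide +kernel
theorem fus3 : P.fusOk (dT T W) B fu 3 = true := by decide +kernel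
theorem fus4 : P.fusOk (dT T W) B fu 4 = true := by decide +kernel
theorem fus5 : P.fusOk (dT T W) B fu 5 = true := by decide +kernel
theorem fus6 : P.fusOk (dT T W) B fu 6 = true := by decide +kernel
theorem fus7 : P.fusOk (dT T W) B fu 7 = true := by decide +kernel
theorem fus8 : P.fusOk (dT T W) B fu 8 = true := by decide +kernel
theorem fus9 : P.fusOk (dT T W) B fu 9 = true := by decide +kernel
theorem fus10 : P.fusOk (dT T W) B fu 10 = true := by decide +kernel
theorem fus11 : P.fusOk (dT T W) B fu 11 = true := by decide +kernel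
theorem fus12 : P.fusOk (dT T W) B fu 12 = true := by decide +kernel
theorem fus13 : P.fusOk (dT T W) B fu 13 = true := by decide +kernel
theorem fin0 : P.finRow lam (bs :: CV) MU 0 = true := by decide +kernel
theorem fin1 : P.finRow lam (bs :: CV) MU 1 = true := by decide +kernel
theorem fin2 : P.finRow lam (bs :: CV) MU 2 = true := by decide +kernel
theorem fin3 : P.finRow lam (bs :: CV) MU 3 = true := by decide +kernel
theorem fin4 : P.finRow lam (bs :: CV) MU 4 = true := by decide +kernel
theorem fin5 : P.finRow lam (bs :: CV) MU 5 = true := by decide +kernel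
theorem fin6 : P.finRow lam (bs :: CV) MU 6 = true := by decide +kernel

theorem pm {G : Type*} [Group G] [Finite G] {A : RAct G 280} {g : ℕ → G} (hb : A.IsBase B)
    (h : A.Tab g 16 T) (ho : Nat.card G = 3265920) : PMult G 2 2 1 :=
  pmult_of_tab hb h ho P (show Nat.Prime 2 by norm_num) W fu 2 lam bs mo [cc0, cc1] CV MU lv 14
    (by decide +kernel) (forall_lt_succ' (forall_lt_succ' (forall_lt_succ' (forall_lt_succ' (forall_lt_succ' (forall_lt_succ' (forall_lt_succ' forall_lt_zero' rel0) rel1) rel2) rel3) rel4) rel5) rel6) (by decide +kernel)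
    (forall_lt_succ' (forall_lt_succ' (forall_lt_succ' (forall_lt_succ' (forall_lt_succ' (forall_lt_succ' (forall_lt_succ' (forall_lt_succ' (forall_lt_succ' (forall_lt_succ' (forall_lt_succ' (forall_lt_succ' (forall_lt_succ' (forall_lt_succ' forall_lt_zero' fus0) fus1) fus2) fus3) fus4) fus5) fus6) fus7) fus8) fus9) fus10) fus11) fus12) fus13)
    (by decide +kernel) (by decide +kernel) (by decide +kernel) (by decide +kernel)
    (List.forall_mem_cons.mpr ⟨con0, (List.forall_mem_cons.mpr ⟨con1, (by simp)⟩)⟩)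
    (forall_lt_succ' (forall_lt_succ' (forall_lt_succ' (forall_lt_succ' (forall_lt_succ' (forall_lt_succ' (forall_lt_succ' forall_lt_zero' fin0) fin1) fin2) fin3) fin4) fin5) fin6) (by decide +kernel)

end Cfsg.Agent.H3.U43.P2
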