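import Cfsg.Agent.L0.PcCert
import Cfsg.Agent.L0.Dw
import Cfsg.Agent.H3.Mu.U43.Tab

/-! Generated certificate: the `3`-part of a Schur multiplier. -/

set_option autoImplicit false
set_option maxRecDepth 100000

open Cfsg.Agent.L0

namespace Cfsg.Agent.H3.U43.P3

noncomputable def W : List (List ℕ) := [
  dw (nat_lit 4) (nat_lit 15) (nat_lit 7) (nat_lit 0x63a47a5),
  dw (nat_lit 4) (nat_lit 15) (nat_lit 1) (nat_lit 0x1),
  dw (nat_lit 4) (nat_lit 15) (nat_lit 7) (nat_lit 0x647c465),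
  dw (nat_lit 4) (nat_lit 15) (nat_lit 7) (nat_lit 0x214af34),
  dw (nat_lit 4) (nat_lit 15) (nat_lit 7) (nat_lit 0x1754a42),
  dw (nat_lit 4) (nat_lit 15) (nat_lit 7) (nat_lit 0x3d984c8),
  dw (nat_lit 4) (nat_lit 15) (nat_lit 8) (nat_lit 0x3454129),
  dw (nat_lit 4) (nat_lit 15) (nat_lit 6) (nat_lit 0x39758d),
  dw (nat_lit 4) (nat_lit 15) (nat_lit 6) (nat_lit 0xb920b6)]

noncomputable def P : PcP := ⟨nat_lit 3, nat_lit 2, nat_lit 5, nat_lit 0x1001001001001000004006004004000012010011002046060000119002, nat_lit 12, nat_lit 4095, nat_lit 15, nat_lit 32767, nat_lit 9, nat_lit 35, nat_lit 9, nat_lit 8⟩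

noncomputable def fu : Fus := ⟨[nat_lit 1024, nat_lit 256, nat_lit 64, nat_lit 16, nat_lit 4, nat_lit 1, nat_lit 64, nat_lit 16, nat_lit 4, nat_lit 1, nat_lit 1153, nat_lit 321, nat_lit 16, nat_lit 1],
  [nat_lit 2304, nat_lit 281, nat_lit 426, nat_lit 34, nat_lit 9, nat_lit 1, nat_lit 2081, nat_lit 40, nat_lit 37, nat_lit 2, nat_lit 1304, nat_lit 1161, nat_lit 1156, nat_lit 1],
  [nat_lit 6, nat_lit 6, nat_lit 6, nat_lit 6, nat_lit 6, nat_lit 6, nat_lit 7, nat_lit 7, nat_lit 7, nat_lit 7, nat_lit 8, nat_lit 8, nat_lit 8, nat_lit 8]⟩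

noncomputable def lam : List ℕ := [nat_lit 0x200000000000000200000000000e00200000000000e00000040007000e00200000000000e00200040000001000200040007000000200000000000000200040008,
  nat_lit 0x200000000001000200000000001000000040007000000000000000001000000040008000e00200038007001000200000000000000200038008,
  nat_lit 0x80000000000000080000000000800040000000000400000008002000400000038008000400040000008000000080000002000000000040008000000040000002,
  nat_lit 0xa00000000000,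
  nat_lit 0xc00000000000000c0000000000c000c0000000000c00000018006000c000c0000000000c000c00180000006000c00180060000000c00000000004000c0040005,
  nat_lit 0xc00000000000000c0000000000c000c0000000000c00000018006000c000c0000000000c000c00180000006000c00180060000000c00000000000000c0018008]

noncomputable def bs : List ℕ := [nat_lit 0x1000e00000020006,
  nat_lit 0x10000001c0000000000000000000000]

noncomputable def mo : List ℕ := [nat_lit 0x90293922e595e77,
  nat_lit 0x11335e08103]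

noncomputable def cv0 : List ℕ := [nat_lit 0x400000000000000000000000000000000000000000000000000000000,
  nat_lit 0x600000000000000000000000000,
  nat_lit 0x600000000000000000000000000000000000000000,
  nat_lit 0x3000000000000000000000000000000000000000000000000000000000000,
  nat_lit 0x10000000000000000000000000000000000000000000000000000000000000000,
  nat_lit 0x18000000000000000000000000000000000000000000000000,
  nat_lit 0xc0000000000000000000000000000000000000000000000000000000000000000000,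
  nat_lit 0x600000000000000000000000000000000000000000000000000000000000000000000000,
  nat_lit 0x180000000000000000000000000000000000000,
  nat_lit 0x4000000000000000000000000000000000c0000000000000000000000000000000000000,
  nat_lit 0x1c0000000000000000000000000000000000000000000000000000000000000000000,
  nat_lit 0x8000000180000000000000000000000000000000000000000000180000000000000000000000,
  nat_lit 0x7000000180000000000000000000000000000000000006000000000000000000000000000000,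
  nat_lit 0x7000c00000000000000000000000006000000000000000000000000000000000000000000000,
  nat_lit 0x200000000000000000000040000000000000000000000000000000000000000000000000,
  nat_lit 0xe00000000008000000000010000000000000000000000000000000000000000000000000,
  nat_lit 0x2000c00000000003000000040000000000600000000000000000000000003000000000000000,
  nat_lit 0x10000001c00100000004000000000000000000000100000000000c0000000000600000000000,
  nat_lit 0x80006001800000060000001c0030000000c00000040000000c00000000000000000000030000,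
  nat_lit 0x2000000140008000000400000008002000000040000001000e00000000000000000000000000,
  nat_lit 0xc0000000000000000000000000000000000000000000000000000000000000000000000000000000000000000000000000,
  nat_lit 0x18000000000000000001000c00000000000000000040000000000000000000000000000000000000000000000000000,
  nat_lit 0x3000000000000002000000180000000000000000000000000000000008000000000000000000000000000000000,
  nat_lit 0x10004000000000000004000c0000000000000000000000000000000000000,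
  nat_lit 0x2000000000000000000000010000000800000000006000000000000000000000000000004000c0000000000000000000000,
  nat_lit 0x800000000002000000000028000000000000000000000200000000000000000000000000,
  nat_lit 0xc0000001000c000c0000003000000080018000000600000008000000600000000000000000000000000,
  nat_lit 0x2000380080000000000000000004000800000000002000000100000000000c00000000000000c0000000000000000008000,
  nat_lit 0x1c0040000000000000000006000c00000000001000000000008006000000000000007000200000000001000000000000000,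
  nat_lit 0x1c0000000000600000000003000e000800380020000000c0000005000400000010006000600000008003000000040000000,
  nat_lit 0x1c0000000000000000018004000200000000000000400100000000000a00140010000000800100000000000000040030001,
  nat_lit 0xc0000000000000000000000000000000000001000000000000000000000000000000000000000000000000000000000000000000000000000,
  nat_lit 0x3000000000000000000000000000000000000000000000000000080030000000000000008000000000000000000000000000000000,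
  nat_lit 0x18000000000000000000000000000000001000600180000000000000000030000000000000010000000000000000000000000000000000,
  nat_lit 0x1c00000000006000000000000000000000000030000001c0000000000a00000000000000000000010000000000180040000000000000000002,
  nat_lit 0x1c0000000000000000000000000000000000000000600100000000000200000010008000000080000000000000100000000000000000000000,
  nat_lit 0xc0000000000000000000000000000000000000000000000000000000000000000000000000000000000000000000000000000000000000000000000000000000,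
  nat_lit 0x180000000000000000000000000000000000000000000000000004000c00300000004000400000060000000c0008004000000040010000000600000000001,
  nat_lit 0x1c0000000000000000000000000000000000000000000000000006000a000400300010000000000000080002002000080050002001c0000002000400000040000,
  nat_lit 0x1c0000000000000000000000000000000000000000000000000007000200040040000001000000000007000000200000008001000000000000000000000000000]

noncomputable def cc0 : List Con := [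
  ⟨nat_lit 1, nat_lit 0, nat_lit 0, [nat_lit 1024], [], nthN cv0 (nat_lit 0)⟩,
  ⟨nat_lit 1, nat_lit 1, nat_lit 1, [nat_lit 16], [], nthN cv0 (nat_lit 1)⟩,
  ⟨nat_lit 1, nat_lit 1, nat_lit 1, [nat_lit 4], [], nthN cv0 (nat_lit 2)⟩,
  ⟨nat_lit 1, nat_lit 1, nat_lit 1, [nat_lit 1], [], nthN cv0 (nat_lit 3)⟩,
  ⟨nat_lit 1, nat_lit 2, nat_lit 2, [nat_lit 64], [], nthN cv0 (nat_lit 4)⟩,
  ⟨nat_lit 1, nat_lit 3, nat_lit 3, [nat_lit 4], [], nthN cv0 (nat_lit 5)⟩,
  ⟨nat_lit 1, nat_lit 3, nat_lit 3, [nat_lit 1], [], nthN cv0 (nat_lit 6)⟩,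
  ⟨nat_lit 1, nat_lit 4, nat_lit 4, [nat_lit 1], [], nthN cv0 (nat_lit 7)⟩,
  ⟨nat_lit 0, nat_lit 0, nat_lit 4, [nat_lit 4, nat_lit 4], [], nthN cv0 (nat_lit 8)⟩,
  ⟨nat_lit 1, nat_lit 0, nat_lit 0, [nat_lit 4], [], nthN cv0 (nat_lit 9)⟩,
  ⟨nat_lit 0, nat_lit 0, nat_lit 2, [nat_lit 1], [], nthN cv0 (nat_lit 10)⟩,
  ⟨nat_lit 0, nat_lit 0, nat_lit 3, [nat_lit 16, nat_lit 16], [], nthN cv0 (nat_lit 11)⟩,
  ⟨nat_lit 0, nat_lit 2, nat_lit 3, [nat_lit 16, nat_lit 16], [], nthN cv0 (nat_lit 12)⟩,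
  ⟨nat_lit 0, nat_lit 2, nat_lit 4, [nat_lit 4, nat_lit 4], [], nthN cv0 (nat_lit 13)⟩,
  ⟨nat_lit 0, nat_lit 0, nat_lit 1, [nat_lit 4], [], nthN cv0 (nat_lit 14)⟩,
  ⟨nat_lit 0, nat_lit 0, nat_lit 1, [nat_lit 16], [], nthN cv0 (nat_lit 15)⟩,
  ⟨nat_lit 1, nat_lit 1, nat_lit 1, [nat_lit 64], [], nthN cv0 (nat_lit 16)⟩,
  ⟨nat_lit 1, nat_lit 0, nat_lit 0, [nat_lit 64], [], nthN cv0 (nat_lit 17)⟩,
  ⟨nat_lit 0, nat_lit 0, nat_lit 1, [nat_lit 256, nat_lit 256], [], nthN cv0 (nat_lit 18)⟩,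
  ⟨nat_lit 0, nat_lit 0, nat_lit 1, [nat_lit 64], [], nthN cv0 (nat_lit 19)⟩,
  ⟨nat_lit 2, nat_lit 6, nat_lit 0, [nat_lit 5, nat_lit 5, nat_lit 5], [], nthN cv0 (nat_lit 20)⟩,
  ⟨nat_lit 2, nat_lit 6, nat_lit 0, [nat_lit 4, nat_lit 4, nat_lit 4], [], nthN cv0 (nat_lit 21)⟩,
  ⟨nat_lit 2, nat_lit 6, nat_lit 0, [nat_lit 3, nat_lit 3, nat_lit 3], [], nthN cv0 (nat_lit 22)⟩,
  ⟨nat_lit 2, nat_lit 6, nat_lit 0, [nat_lit 4, nat_lit 0], [nat_lit 0, nat_lit 4], nthN cv0 (nat_lit 23)⟩,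
  ⟨nat_lit 2, nat_lit 6, nat_lit 0, [nat_lit 3, nat_lit 0], [nat_lit 0, nat_lit 3, nat_lit 5], nthN cv0 (nat_lit 24)⟩,
  ⟨nat_lit 2, nat_lit 6, nat_lit 0, [nat_lit 3, nat_lit 1], [nat_lit 1, nat_lit 3], nthN cv0 (nat_lit 25)⟩,
  ⟨nat_lit 2, nat_lit 6, nat_lit 0, [nat_lit 1, nat_lit 1, nat_lit 1], [], nthN cv0 (nat_lit 26)⟩,
  ⟨nat_lit 2, nat_lit 6, nat_lit 0, [nat_lit 1, nat_lit 0], [nat_lit 0, nat_lit 1, nat_lit 3, nat_lit 4, nat_lit 4, nat_lit 5], nthN cv0 (nat_lit 27)⟩,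
  ⟨nat_lit 2, nat_lit 6, nat_lit 0, [nat_lit 2, nat_lit 1], [nat_lit 1, nat_lit 2, nat_lit 4, nat_lit 5, nat_lit 5], nthN cv0 (nat_lit 28)⟩,
  ⟨nat_lit 2, nat_lit 6, nat_lit 0, [nat_lit 2, nat_lit 2, nat_lit 2], [nat_lit 5, nat_lit 5], nthN cv0 (nat_lit 29)⟩,
  ⟨nat_lit 2, nat_lit 6, nat_lit 0, [nat_lit 0, nat_lit 0, nat_lit 0], [nat_lit 5, nat_lit 5], nthN cv0 (nat_lit 30)⟩,
  ⟨nat_lit 2, nat_lit 7, nat_lit 0, [nat_lit 9, nat_lit 9, nat_lit 9], [], nthN cv0 (nat_lit 31)⟩,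
  ⟨nat_lit 2, nat_lit 7, nat_lit 0, [nat_lit 7, nat_lit 7, nat_lit 7], [], nthN cv0 (nat_lit 32)⟩,
  ⟨nat_lit 2, nat_lit 7, nat_lit 0, [nat_lit 8, nat_lit 8, nat_lit 8], [], nthN cv0 (nat_lit 33)⟩,
  ⟨nat_lit 2, nat_lit 7, nat_lit 0, [nat_lit 6, nat_lit 6, nat_lit 6], [nat_lit 9, nat_lit 9], nthN cv0 (nat_lit 34)⟩,
  ⟨nat_lit 2, nat_lit 7, nat_lit 0, [nat_lit 8, nat_lit 6], [nat_lit 6, nat_lit 8, nat_lit 9, nat_lit 9], nthN cv0 (nat_lit 35)⟩,
  ⟨nat_lit 2, nat_lit 8, nat_lit 0, [nat_lit 13, nat_lit 13, nat_lit 13], [], nthN cv0 (nat_lit 36)⟩,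
  ⟨nat_lit 2, nat_lit 8, nat_lit 0, [nat_lit 12, nat_lit 12, nat_lit 12], [], nthN cv0 (nat_lit 37)⟩,
  ⟨nat_lit 2, nat_lit 8, nat_lit 0, [nat_lit 12, nat_lit 10], [nat_lit 10, nat_lit 12, nat_lit 13, nat_lit 13], nthN cv0 (nat_lit 38)⟩,
  ⟨nat_lit 2, nat_lit 8, nat_lit 0, [nat_lit 12, nat_lit 11], [nat_lit 11, nat_lit 12, nat_lit 13, nat_lit 13], nthN cv0 (nat_lit 39)⟩]

theorem con0 : allL cc0 (P.conOk fu) = true := by decide +kernel

noncomputable def CV : List (List ℕ) := [cv0]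

noncomputable def MU : List (List ℕ) := [[nat_lit 0],
  [nat_lit 0,
  nat_lit 0xe56cdf673177887bbac259640c8d781ec],
  [nat_lit 0,
  nat_lit 0x8,
  nat_lit 0x18c257de8af107661b190a47a569988d6e],
  [nat_lit 0x4c7d551a6c18561fd2b037e82d418d5d2,
  nat_lit 0x180cd7c7b498fb0b519f687,
  nat_lit 0x22520273ed008c5409bc44814288aba867,
  nat_lit 0x4afccd38fd98495a],
  [nat_lit 0x1c3c098185df3641e31e64c60e8370706c,
  nat_lit 0xe55912fe0ee2d926d3743803fe8121666,
  nat_lit 0xd093522d7debc97a16bb51f7008e32512,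
  nat_lit 0xe55912fe0ee308a87da17f3b02cf71dd9,
  nat_lit 0xd11780aeed17b7ae9b23c27ff0168],
  [nat_lit 0x144,
  nat_lit 0x486a6eb74caf8b,
  nat_lit 0x206fc4,
  nat_lit 0x148ca8f9c65,
  nat_lit 0xe55912fe0ee308a87da115e604ad8df58,
  nat_lit 0xd11780aeb415b84809532f9bcb516]]

noncomputable def lv : List (List (List ℕ) × ℕ × List (ℕ × List ℕ)) := [
  ([[nat_lit 0], [nat_lit 2], [nat_lit 3], [nat_lit 4], [nat_lit 5]], nat_lit 0, [(nat_lit 0, []), (nat_lit 1, [nat_lit 4, nat_lit 3, nat_lit 2]), (nat_lit 2, [nat_lit 4, nat_lit 3]), (nat_lit 3, [nat_lit 2, nat_lit 2]), (nat_lit 4, [nat_lit 4, nat_lit 4, nat_lit 3, nat_lit 0, nat_lit 0]), (nat_lit 5, [nat_lit 1, nat_lit 2, nat_lit 0, nat_lit 1]), (nat_lit 6, [nat_lit 3, nat_lit 2, nat_lit 1, nat_lit 2]), (nat_lit 7, [nat_lit 4, nat_lit 1, nat_lit 1, nat_lit 0]), (nat_lit 8, [nat_lit 2, nat_lit 1, nat_lit 1, nat_lit 0]), (nat_lit 9, [nat_lit 1, nat_lit 3, nat_lit 1, nat_lit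 0, nat_lit 0]), (nat_lit 10, [nat_lit 2, nat_lit 0, nat_lit 0]), (nat_lit 12, [nat_lit 4, nat_lit 4, nat_lit 3, nat_lit 3, nat_lit 2]), (nat_lit 13, [nat_lit 3, nat_lit 3, nat_lit 1, nat_lit 0]), (nat_lit 14, [nat_lit 1, nat_lit 2, nat_lit 0, nat_lit 1, nat_lit 0]), (nat_lit 15, [nat_lit 3, nat_lit 2, nat_lit 0, nat_lit 1]), (nat_lit 16, [nat_lit 1, nat_lit 3, nat_lit 2, nat_lit 0, nat_lit 0]), (nat_lit 18, [nat_lit 0]), (nat_lit 19, [nat_lit 3, nat_lit 1, nat_lit 2, nat_lit 1]), (nat_lit 20, [nat_lit 3, nat_lit 2, nat_lit 2, nat_lit 0]), (nat_lit 21, [nat_lit 3, nat_lit 3, nat_lit 2, nat_lit 1, nat_lit 2]), (nat_lit 22, [nat_lit 1, nat_lit 3, nat_lit 0, nat_lit 0]), (nat_lit 23, [nat_lit 4, nat_lit 3, nat_lit 2, nat_lit 2]), (nat_lit 24, [nat_lit 0, nat_lit 0, nat_lit 1, nat_lit 3]), (nat_lit 25, [nat_lit 3, nat_lit 3, nat_lit 0, nat_lit 2, nat_lit 2, nat_lit 0]), (nat_lit 26, [nat_lit 1, nat_lit 3, nat_lit 3,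 nat_lit 0, nat_lit 1, nat_lit 0]), (nat_lit 27, [nat_lit 3, nat_lit 3, nat_lit 2, nat_lit 1, nat_lit 1]), (nat_lit 28, [nat_lit 1, nat_lit 1, nat_lit 2]), (nat_lit 29, [nat_lit 2, nat_lit 1, nat_lit 2]), (nat_lit 31, [nat_lit 0, nat_lit 1]), (nat_lit 32, [nat_lit 4, nat_lit 4, nat_lit 3, nat_lit 3, nat_lit 2, nat_lit 2]), (nat_lit 33, [nat_lit 3, nat_lit 3, nat_lit 2, nat_lit 0]), (nat_lit 34, [nat_lit 2]), (nat_lit 36, [nat_lit 1, nat_lit 3, nat_lit 3, nat_lit 0]), (nat_lit 37, [nat_lit 3, nat_lit 3, nat_lit 1, nat_lit 0, nat_lit 1]), (nat_lit 38, [nat_lit 3, nat_lit 0, nat_lit 2, nat_lit 1]), (nat_lit 39, [nat_lit 4, nat_lit 4, nat_lit 3, nat_lit 3, nat_lit 0, nat_lit 0]), (nat_lit 40, [nat_lit 1, nat_lit 3, nat_lit 3, nat_lit 1, nat_lit 0]), (nat_lit 41, [nat_lit 4, nat_lit 1, nat_lit 2, nat_lit 0]), (nat_lit 42, [nat_lit 1, nat_lit 1]), (nat_lit 43, [nat_lit 3, nat_lit 2, nat_lit 0, nat_lit 0]), (nat_lit 44,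 [nat_lit 0, nat_lit 1, nat_lit 3, nat_lit 3, nat_lit 1]), (nat_lit 45, [nat_lit 2, nat_lit 1]), (nat_lit 46, [nat_lit 3, nat_lit 1, nat_lit 3, nat_lit 1]), (nat_lit 47, [nat_lit 2, nat_lit 0, nat_lit 1, nat_lit 0]), (nat_lit 48, [nat_lit 0, nat_lit 2, nat_lit 2, nat_lit 0]), (nat_lit 49, [nat_lit 3, nat_lit 3, nat_lit 2, nat_lit 1]), (nat_lit 50, [nat_lit 4, nat_lit 4, nat_lit 3, nat_lit 0]), (nat_lit 51, [nat_lit 3, nat_lit 3, nat_lit 1, nat_lit 0, nat_lit 1, nat_lit 0]), (nat_lit 52, [nat_lit 4, nat_lit 1, nat_lit 0, nat_lit 0]), (nat_lit 53, [nat_lit 1, nat_lit 1, nat_lit 3, nat_lit 0, nat_lit 0]), (nat_lit 54, [nat_lit 3, nat_lit 2, nat_lit 1]), (nat_lit 58, [nat_lit 1, nat_lit 1, nat_lit 3]), (nat_lit 59, [nat_lit 2, nat_lit 0, nat_lit 0, nat_lit 1, nat_lit 1]), (nat_lit 60, [nat_lit 3, nat_lit 3, nat_lit 2, nat_lit 0, nat_lit 2]), (nat_lit 61, [nat_lit 0, nat_lit 2]), (nat_lit 62, [nat_lit 1, nat_lit 0, nat_lit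 0, nat_lit 2]), (nat_lit 63, [nat_lit 1, nat_lit 2, nat_lit 0, nat_lit 0]), (nat_lit 64, [nat_lit 3, nat_lit 3, nat_lit 0, nat_lit 1, nat_lit 1]), (nat_lit 66, [nat_lit 3, nat_lit 3, nat_lit 0, nat_lit 0, nat_lit 1]), (nat_lit 67, [nat_lit 3, nat_lit 1, nat_lit 2, nat_lit 2, nat_lit 1]), (nat_lit 69, [nat_lit 3, nat_lit 3, nat_lit 1, nat_lit 2, nat_lit 2, nat_lit 1]), (nat_lit 70, [nat_lit 2, nat_lit 2, nat_lit 1]), (nat_lit 71, [nat_lit 3, nat_lit 3, nat_lit 1, nat_lit 2]), (nat_lit 73, [nat_lit 4, nat_lit 0]), (nat_lit 74, [nat_lit 3, nat_lit 3, nat_lit 1, nat_lit 2, nat_lit 1]), (nat_lit 75, [nat_lit 0, nat_lit 0, nat_lit 1]), (nat_lit 76, [nat_lit 0, nat_lit 1, nat_lit 1, nat_lit 2, nat_lit 0]), (nat_lit 77, [nat_lit 3, nat_lit 3, nat_lit 2]), (nat_lit 79, [nat_lit 3, nat_lit 0, nat_lit 2, nat_lit 2]), (nat_lit 80, [nat_lit 3, nat_lit 3, nat_lit 1, nat_lit 0, nat_lit 0]), (nat_lit 81, [nat_lit 2, nat_lit 1,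 nat_lit 1]), (nat_lit 82, [nat_lit 3, nat_lit 3, nat_lit 0, nat_lit 0]), (nat_lit 83, [nat_lit 3, nat_lit 3, nat_lit 0, nat_lit 2]), (nat_lit 84, [nat_lit 2, nat_lit 2, nat_lit 1, nat_lit 1]), (nat_lit 85, [nat_lit 3, nat_lit 1, nat_lit 0, nat_lit 1, nat_lit 0]), (nat_lit 88, [nat_lit 1, nat_lit 3, nat_lit 3, nat_lit 0, nat_lit 0]), (nat_lit 89, [nat_lit 4]), (nat_lit 90, [nat_lit 4, nat_lit 2, nat_lit 0]), (nat_lit 91, [nat_lit 4, nat_lit 4, nat_lit 3]), (nat_lit 92, [nat_lit 1, nat_lit 3, nat_lit 0, nat_lit 1]), (nat_lit 93, [nat_lit 3, nat_lit 2, nat_lit 2, nat_lit 0, nat_lit 0]), (nat_lit 94, [nat_lit 3, nat_lit 0, nat_lit 0, nat_lit 1, nat_lit 3]), (nat_lit 95, [nat_lit 3, nat_lit 2, nat_lit 2, nat_lit 1, nat_lit 1]), (nat_lit 96, [nat_lit 3]), (nat_lit 97, [nat_lit 3, nat_lit 3, nat_lit 2, nat_lit 2]), (nat_lit 98, [nat_lit 3, nat_lit 2, nat_lit 2, nat_lit 1]), (nat_lit 99, [nat_lit 1, nat_lit 3, nat_lit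 1]), (nat_lit 102, [nat_lit 4, nat_lit 3, nat_lit 3, nat_lit 2, nat_lit 0]), (nat_lit 103, [nat_lit 3, nat_lit 1, nat_lit 2]), (nat_lit 104, [nat_lit 1, nat_lit 2]), (nat_lit 105, [nat_lit 3, nat_lit 3, nat_lit 2, nat_lit 1, nat_lit 2, nat_lit 1]), (nat_lit 106, [nat_lit 4, nat_lit 4]), (nat_lit 107, [nat_lit 3, nat_lit 3, nat_lit 0, nat_lit 2, nat_lit 0]), (nat_lit 109, [nat_lit 3, nat_lit 3, nat_lit 1, nat_lit 1, nat_lit 0, nat_lit 0]), (nat_lit 110, [nat_lit 2, nat_lit 2, nat_lit 1, nat_lit 1, nat_lit 0]), (nat_lit 111, [nat_lit 4, nat_lit 2]), (nat_lit 112, [nat_lit 0, nat_lit 1, nat_lit 0, nat_lit 1]), (nat_lit 113, [nat_lit 3, nat_lit 0, nat_lit 2, nat_lit 2, nat_lit 0]), (nat_lit 114, [nat_lit 1, nat_lit 0, nat_lit 0]), (nat_lit 115, [nat_lit 4, nat_lit 1, nat_lit 3, nat_lit 0]), (nat_lit 116, [nat_lit 1, nat_lit 3, nat_lit 2, nat_lit 1]), (nat_lit 118, [nat_lit 4, nat_lit 4, nat_lit 0, nat_lit 0]), (nat_lit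 119, [nat_lit 3, nat_lit 3, nat_lit 1]), (nat_lit 120, [nat_lit 2, nat_lit 2, nat_lit 0, nat_lit 0]), (nat_lit 121, [nat_lit 1, nat_lit 3, nat_lit 2, nat_lit 0]), (nat_lit 122, [nat_lit 4, nat_lit 3, nat_lit 3]), (nat_lit 123, [nat_lit 3, nat_lit 1, nat_lit 0, nat_lit 0]), (nat_lit 124, [nat_lit 1, nat_lit 0, nat_lit 1, nat_lit 0]), (nat_lit 125, [nat_lit 4, nat_lit 1, nat_lit 0]), (nat_lit 127, [nat_lit 3, nat_lit 2, nat_lit 1, nat_lit 2, nat_lit 1]), (nat_lit 128, [nat_lit 0, nat_lit 1, nat_lit 3, nat_lit 3, nat_lit 1, nat_lit 0]), (nat_lit 129, [nat_lit 1, nat_lit 0, nat_lit 1, nat_lit 3, nat_lit 0]), (nat_lit 130, [nat_lit 3, nat_lit 2, nat_lit 0, nat_lit 2]), (nat_lit 131, [nat_lit 3, nat_lit 0, nat_lit 1, nat_lit 3, nat_lit 0]), (nat_lit 132, [nat_lit 2, nat_lit 0, nat_lit 1]), (nat_lit 133, [nat_lit 1, nat_lit 3, nat_lit 3]), (nat_lit 134, [nat_lit 3, nat_lit 0, nat_lit 1]), (nat_lit 135, [nat_lit 0, nat_lit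 1, nat_lit 3, nat_lit 3]), (nat_lit 136, [nat_lit 3, nat_lit 2, nat_lit 0, nat_lit 2, nat_lit 0]), (nat_lit 137, [nat_lit 0, nat_lit 1, nat_lit 1, nat_lit 3]), (nat_lit 138, [nat_lit 0, nat_lit 0, nat_lit 1, nat_lit 3, nat_lit 3]), (nat_lit 139, [nat_lit 3, nat_lit 0, nat_lit 0, nat_lit 2]), (nat_lit 140, [nat_lit 0, nat_lit 2, nat_lit 1]), (nat_lit 142, [nat_lit 3, nat_lit 3, nat_lit 1, nat_lit 1, nat_lit 0]), (nat_lit 143, [nat_lit 3, nat_lit 1, nat_lit 3, nat_lit 1, nat_lit 0]), (nat_lit 144, [nat_lit 4, nat_lit 4, nat_lit 0]), (nat_lit 145, [nat_lit 1, nat_lit 2, nat_lit 0]), (nat_lit 146, [nat_lit 0, nat_lit 1, nat_lit 1, nat_lit 0]), (nat_lit 147, [nat_lit 4, nat_lit 3, nat_lit 3, nat_lit 0, nat_lit 0]), (nat_lit 148, [nat_lit 3, nat_lit 1, nat_lit 3, nat_lit 0, nat_lit 1]), (nat_lit 150, [nat_lit 0, nat_lit 1, nat_lit 3, nat_lit 0]), (nat_lit 151, [nat_lit 0, nat_lit 1, nat_lit 3]), (nat_lit 152, [nat_lit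 0, nat_lit 1, nat_lit 3, nat_lit 2]), (nat_lit 153, [nat_lit 3, nat_lit 2, nat_lit 1, nat_lit 1]), (nat_lit 155, [nat_lit 3, nat_lit 3, nat_lit 1, nat_lit 2, nat_lit 2]), (nat_lit 156, [nat_lit 3, nat_lit 3, nat_lit 0, nat_lit 1, nat_lit 0]), (nat_lit 157, [nat_lit 3, nat_lit 1, nat_lit 1]), (nat_lit 158, [nat_lit 3, nat_lit 2, nat_lit 2]), (nat_lit 159, [nat_lit 1, nat_lit 1, nat_lit 0]), (nat_lit 161, [nat_lit 3, nat_lit 1, nat_lit 1, nat_lit 0]), (nat_lit 162, [nat_lit 3, nat_lit 3, nat_lit 2, nat_lit 2, nat_lit 1, nat_lit 1]), (nat_lit 163, [nat_lit 3, nat_lit 2]), (nat_lit 164, [nat_lit 2, nat_lit 1, nat_lit 2, nat_lit 1]), (nat_lit 165, [nat_lit 3, nat_lit 1, nat_lit 0]), (nat_lit 166, [nat_lit 3, nat_lit 1, nat_lit 3, nat_lit 2, nat_lit 1]), (nat_lit 167, [nat_lit 4, nat_lit 3, nat_lit 0]), (nat_lit 168, [nat_lit 3, nat_lit 3, nat_lit 0, nat_lit 1]), (nat_lit 169, [nat_lit 4, nat_lit 4, nat_lit 3, nat_lit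 3, nat_lit 0]), (nat_lit 170, [nat_lit 0, nat_lit 0, nat_lit 1, nat_lit 1]), (nat_lit 171, [nat_lit 4, nat_lit 4, nat_lit 2]), (nat_lit 172, [nat_lit 1, nat_lit 3]), (nat_lit 173, [nat_lit 4, nat_lit 0, nat_lit 0]), (nat_lit 174, [nat_lit 3, nat_lit 0, nat_lit 1, nat_lit 3, nat_lit 2]), (nat_lit 175, [nat_lit 3, nat_lit 3, nat_lit 0, nat_lit 0, nat_lit 2]), (nat_lit 176, [nat_lit 3, nat_lit 1, nat_lit 3, nat_lit 0]), (nat_lit 177, [nat_lit 3, nat_lit 1, nat_lit 3, nat_lit 0, nat_lit 0]), (nat_lit 178, [nat_lit 3, nat_lit 3, nat_lit 0, nat_lit 2, nat_lit 1]), (nat_lit 179, [nat_lit 1, nat_lit 3, nat_lit 3, nat_lit 0, nat_lit 1]), (nat_lit 180, [nat_lit 4, nat_lit 4, nat_lit 1]), (nat_lit 182, [nat_lit 3, nat_lit 0, nat_lit 2]), (nat_lit 183, [nat_lit 4, nat_lit 3, nat_lit 3, nat_lit 2, nat_lit 2]), (nat_lit 184, [nat_lit 3, nat_lit 1, nat_lit 1, nat_lit 0, nat_lit 0]), (nat_lit 185, [nat_lit 1, nat_lit 1, nat_lit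 0, nat_lit 0]), (nat_lit 186, [nat_lit 3, nat_lit 3, nat_lit 2, nat_lit 2, nat_lit 1]), (nat_lit 187, [nat_lit 3, nat_lit 0, nat_lit 0]), (nat_lit 188, [nat_lit 4, nat_lit 4, nat_lit 1, nat_lit 1]), (nat_lit 189, [nat_lit 2, nat_lit 1, nat_lit 2, nat_lit 0]), (nat_lit 190, [nat_lit 3, nat_lit 0, nat_lit 0, nat_lit 1]), (nat_lit 192, [nat_lit 0, nat_lit 1, nat_lit 3, nat_lit 2, nat_lit 0]), (nat_lit 193, [nat_lit 1, nat_lit 3, nat_lit 2]), (nat_lit 195, [nat_lit 3, nat_lit 0, nat_lit 1, nat_lit 3, nat_lit 1, nat_lit 0]), (nat_lit 196, [nat_lit 3, nat_lit 3, nat_lit 2, nat_lit 0, nat_lit 0]), (nat_lit 197, [nat_lit 3, nat_lit 1, nat_lit 2, nat_lit 2]), (nat_lit 199, [nat_lit 1]), (nat_lit 200, [nat_lit 0, nat_lit 1, nat_lit 0]), (nat_lit 201, [nat_lit 1, nat_lit 1, nat_lit 2, nat_lit 0, nat_lit 0]), (nat_lit 202, [nat_lit 4, nat_lit 1, nat_lit 1]), (nat_lit 204, [nat_lit 1, nat_lit 0, nat_lit 1]), (nat_lit 205, [nat_lit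 3, nat_lit 3, nat_lit 0]), (nat_lit 207, [nat_lit 0, nat_lit 1, nat_lit 1, nat_lit 3, nat_lit 0]), (nat_lit 208, [nat_lit 1, nat_lit 3, nat_lit 0]), (nat_lit 211, [nat_lit 2, nat_lit 1, nat_lit 2, nat_lit 0, nat_lit 0]), (nat_lit 212, [nat_lit 1, nat_lit 2, nat_lit 2, nat_lit 1]), (nat_lit 214, [nat_lit 4, nat_lit 4, nat_lit 1, nat_lit 0]), (nat_lit 215, [nat_lit 0, nat_lit 1, nat_lit 1, nat_lit 2]), (nat_lit 217, [nat_lit 3, nat_lit 0, nat_lit 1, nat_lit 0]), (nat_lit 219, [nat_lit 3, nat_lit 0]), (nat_lit 220, [nat_lit 3, nat_lit 0, nat_lit 2, nat_lit 0]), (nat_lit 221, [nat_lit 4, nat_lit 4, nat_lit 3, nat_lit 2]), (nat_lit 222, [nat_lit 3, nat_lit 0, nat_lit 1, nat_lit 1, nat_lit 0]), (nat_lit 224, [nat_lit 3, nat_lit 3, nat_lit 1, nat_lit 1]), (nat_lit 225, [nat_lit 3, nat_lit 1, nat_lit 3]), (nat_lit 226, [nat_lit 3, nat_lit 3]), (nat_lit 227, [nat_lit 1, nat_lit 0]), (nat_lit 228, [nat_lit 0, nat_lit 0]),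 (nat_lit 229, [nat_lit 3, nat_lit 1, nat_lit 0, nat_lit 1]), (nat_lit 230, [nat_lit 1, nat_lit 3, nat_lit 0, nat_lit 1, nat_lit 0]), (nat_lit 231, [nat_lit 2, nat_lit 0]), (nat_lit 232, [nat_lit 2, nat_lit 0, nat_lit 2, nat_lit 0]), (nat_lit 233, [nat_lit 0, nat_lit 1, nat_lit 3, nat_lit 1, nat_lit 0]), (nat_lit 234, [nat_lit 1, nat_lit 3, nat_lit 1, nat_lit 0]), (nat_lit 235, [nat_lit 4, nat_lit 3, nat_lit 0, nat_lit 0]), (nat_lit 236, [nat_lit 0, nat_lit 2, nat_lit 2]), (nat_lit 237, [nat_lit 3, nat_lit 3, nat_lit 0, nat_lit 1, nat_lit 1, nat_lit 0]), (nat_lit 238, [nat_lit 3, nat_lit 0, nat_lit 1, nat_lit 3, nat_lit 1]), (nat_lit 239, [nat_lit 0, nat_lit 1, nat_lit 3, nat_lit 1]), (nat_lit 241, [nat_lit 3, nat_lit 3, nat_lit 2, nat_lit 2, nat_lit 0]), (nat_lit 242, [nat_lit 1, nat_lit 3, nat_lit 3, nat_lit 1, nat_lit 0, nat_lit 0]), (nat_lit 243, [nat_lit 0, nat_lit 1, nat_lit 1]), (nat_lit 244, [nat_lit 1,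 nat_lit 2, nat_lit 1]), (nat_lit 245, [nat_lit 2, nat_lit 0, nat_lit 0, nat_lit 1]), (nat_lit 246, [nat_lit 4, nat_lit 4, nat_lit 3, nat_lit 2, nat_lit 2]), (nat_lit 247, [nat_lit 1, nat_lit 2, nat_lit 2]), (nat_lit 249, [nat_lit 3, nat_lit 0, nat_lit 1, nat_lit 1]), (nat_lit 250, [nat_lit 4, nat_lit 3, nat_lit 3, nat_lit 2]), (nat_lit 251, [nat_lit 0, nat_lit 2, nat_lit 0]), (nat_lit 252, [nat_lit 4, nat_lit 1, nat_lit 3, nat_lit 0, nat_lit 0]), (nat_lit 253, [nat_lit 0, nat_lit 0, nat_lit 2]), (nat_lit 254, [nat_lit 0, nat_lit 1, nat_lit 3, nat_lit 3, nat_lit 0]), (nat_lit 255, [nat_lit 3, nat_lit 1, nat_lit 3, nat_lit 0, nat_lit 1, nat_lit 0]), (nat_lit 256, [nat_lit 3, nat_lit 3, nat_lit 0, nat_lit 2, nat_lit 2]), (nat_lit 257, [nat_lit 4, nat_lit 1]), (nat_lit 258, [nat_lit 2, nat_lit 0, nat_lit 2]), (nat_lit 259, [nat_lit 3, nat_lit 1, nat_lit 3, nat_lit 2]), (nat_lit 260, [nat_lit 4, nat_lit 2, nat_lit 2]),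 (nat_lit 261, [nat_lit 1, nat_lit 3, nat_lit 3, nat_lit 1]), (nat_lit 262, [nat_lit 4, nat_lit 1, nat_lit 3]), (nat_lit 263, [nat_lit 3, nat_lit 1, nat_lit 3, nat_lit 1, nat_lit 0, nat_lit 0]), (nat_lit 264, [nat_lit 4, nat_lit 4, nat_lit 3, nat_lit 3]), (nat_lit 265, [nat_lit 2, nat_lit 2, nat_lit 0]), (nat_lit 266, [nat_lit 1, nat_lit 0, nat_lit 1, nat_lit 3]), (nat_lit 267, [nat_lit 3, nat_lit 3, nat_lit 2, nat_lit 2, nat_lit 0, nat_lit 0]), (nat_lit 268, [nat_lit 3, nat_lit 0, nat_lit 1, nat_lit 3]), (nat_lit 269, [nat_lit 1, nat_lit 1, nat_lit 2, nat_lit 0]), (nat_lit 270, [nat_lit 3, nat_lit 1]), (nat_lit 272, [nat_lit 1, nat_lit 1, nat_lit 3, nat_lit 0]), (nat_lit 273, [nat_lit 3, nat_lit 3, nat_lit 2, nat_lit 0, nat_lit 1]), (nat_lit 274, [nat_lit 4, nat_lit 3, nat_lit 3, nat_lit 0]), (nat_lit 275, [nat_lit 4, nat_lit 3, nat_lit 2, nat_lit 0]), (nat_lit 276, [nat_lit 4, nat_lit 1, nat_lit 2]), (nat_lit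 277, [nat_lit 3, nat_lit 3, nat_lit 2, nat_lit 0, nat_lit 2, nat_lit 0]), (nat_lit 278, [nat_lit 4, nat_lit 4, nat_lit 2, nat_lit 2]), (nat_lit 279, [nat_lit 3, nat_lit 2, nat_lit 0])]),
  ([[nat_lit 1]], nat_lit 11, [(nat_lit 11, []), (nat_lit 30, [nat_lit 0, nat_lit 0]), (nat_lit 35, [nat_lit 0])])]

theorem rel0 : P.relRow (dT T W) B 0 = true := by decide +kernel
theorem rel1 : P.relRow (dT T W) B 1 = true := by decide +kernel
theorem rel2 : P.relRow (dT T W) B 2 = true := by decide +kernel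
theorem rel3 : P.relRow (dT T W) B 3 = true := by decide +kernel
theorem rel4 : P.relRow (dT T W) B 4 = true := by decide +kernel
theorem rel5 : P.relRow (dT T W) B 5 = true := by decide +kernel
theorem fus0 : P.fusOk (dT T W) B fu 0 = true := by decide +kernel
theorem fus1 : P.fusOk (dT T W) B fu 1 = true := by decide +kernel
theorem fus2 : P.fusOk (dT T W) B fu 2 = true := by decide +kernel
theorem fus3 : P.fusOk (dT T W) B fu 3 = true := by decide +kernel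
theorem fus4 : P.fusOk (dT T W) B fu 4 = true := by decide +kernel
theorem fus5 : P.fusOk (dT T W) B fu 5 = true := by decide +kernel
theorem fus6 : P.fusOk (dT T W) B fu 6 = true := by decide +kernel
theorem fus7 : P.fusOk (dT T W) B fu 7 = true := by decide +kernel
theorem fus8 : P.fusOk (dT T W) B fu 8 = true := by decide +kernel
theorem fus9 : P.fusOk (dT T W) B fu 9 = true := by decide +kernel
theorem fus10 : P.fusOk (dT T W) B fu 10 = true := by decide +kernel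
theorem fus11 : P.fusOk (dT T W) B fu 11 = true := by decide +kernel
theorem fus12 : P.fusOk (dT T W) B fu 12 = true := by decide +kernel
theorem fus13 : P.fusOk (dT T W) B fu 13 = true := by decide +kernel
theorem fin0 : P.finRow lam (bs :: CV) MU 0 = true := by decide +kernel
theorem fin1 : P.finRow lam (bs :: CV) MU 1 = true := by decide +kernel
theorem fin2 : P.finRow lam (bs :: CV) MU 2 = true := by decide +kernel
theorem fin3 : P.finRow lam (bs :: CV) MU 3 = true := by decide +kernel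
theorem fin4 : P.finRow lam (bs :: CV) MU 4 = true := by decide +kernel
theorem fin5 : P.finRow lam (bs :: CV) MU 5 = true := by decide +kernel

theorem pm {G : Type*} [Group G] [Finite G] {A : RAct G 280} {g : ℕ → G} (hb : A.IsBase B)
    (h : A.Tab g 16 T) (ho : Nat.card G = 3265920) : PMult G 3 1 2 :=
  pmult_of_tab hb h ho P (show Nat.Prime 3 by norm_num) W fu 1 lam bs mo [cc0] CV MU lv 14
    (by decide +kernel) (forall_lt_succ' (forall_lt_succ' (forall_lt_succ' (forall_lt_succ' (forall_lt_succ' (forall_lt_succ' forall_lt_zero' rel0) rel1) rel2) rel3) rel4) rel5) (by decide +kernel)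
    (forall_lt_succ' (forall_lt_succ' (forall_lt_succ' (forall_lt_succ' (forall_lt_succ' (forall_lt_succ' (forall_lt_succ' (forall_lt_succ' (forall_lt_succ' (forall_lt_succ' (forall_lt_succ' (forall_lt_succ' (forall_lt_succ' (forall_lt_succ' forall_lt_zero' fus0) fus1) fus2) fus3) fus4) fus5) fus6) fus7) fus8) fus9) fus10) fus11) fus12) fus13)
    (by decide +kernel) (by decide +kernel) (by decide +kernel) (by decide +kernel)
    (List.forall_mem_cons.mpr ⟨con0, (by simp)⟩)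
    (forall_lt_succ' (forall_lt_succ' (forall_lt_succ' (forall_lt_succ' (forall_lt_succ' (forall_lt_succ' forall_lt_zero' fin0) fin1) fin2) fin3) fin4) fin5) (by decide +kernel)

end Cfsg.Agent.H3.U43.P3
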