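import Cfsg.Agent.L0.CosetChain

/-! Generated coset table certificate. -/

set_option autoImplicit false
set_option maxRecDepth 100000

open Cfsg.Agent.L0

namespace Cfsg.Agent.H3.U43.Tc1

noncomputable def t0 : BT := .node (.node (.node (.leaf (nat_lit 0x36aec44000f1ad1262acb34000001d36906448863000029344e2096a10428b809247540eb91cb43ced800380000c21120e2c8ed71c00012ca340af81cb03c3e049ac910f0036006800ca8c9000053190ca10cc20840000a83001855a662220882e21086511ce6392a45000b80003386491d1218016000041050671b8d002aa24022944314ca1b88b61268528000190423844b0800a00003188410592480134f4010c2319c482c8c2001200220000c2090c3271a0040000198531064a14007a3e000072883001a4828006000b00000028820800900100000003998435080019178020044008801100220044008000000a001040088010000000c001080110020000)) (.leaf (nat_lit 0x2dc89a90ab23d2475c65b740002bd720a05c90ef200002d2672693721624c5e794635846958cad1bce226480000d4a14112dc6798c00014d9209efa8cb51e7a38b112de25bc45888b2e952300006130af017224ac40000b509b5e9dc4568b1f16737912918d434a0623498a80002cc44c84dc8a32000004331170aa972097970a)))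 (.leaf (nat_lit 0x2bb0b660bcc27584e3e5c1c0002d4f208c5e613ac00002cac77527ac1798c5e292d02710694958b1045271e00009c9945d25c24c640001424282a4e449274a71088a19d126aecb48d2822d00000586116b13d021aa0000927931666bc41162e08644cced12d954986b84d64000024aa8f5c9e7904500004a54b6e9bdb312d044423a2c358ce81121329e451400013592c308a20869800034c64718d8910448b81b15a22aa453c9d021e02188000133229d3260c411000013d724266c30c4a4110c950c21e262c4a5cd0d904300008948d461354419800009492c9c229048265b0448590ca1308553c410c98d800026a2473cdab929a00004e44df193e1241529c2))) (.node (.leaf (nat_lit 0x2290ca5c9509214262c4a58000235036344a78867800027200090dcb10438b8118c675b249820899b572328000090b00232636410c00015985322ce54c484110888190422492c6148c4921900004538882a98b342e00008c719c785144a6679024b24ac59a8a20844c208708000279aa82c9e290de00005035b6fab43413735012a40ca6c94aa0992334410800020a13b384d4d484800000444b49c43111296c09d4d42924310ce1904223b40000ae4945f381400840001e1f249a47389504a705042990463844b348c2002000004a1c8e512ce33a20000821218a2896496a4482462dd469205341c44190a70000003e8d2494221d20000582c9c4904222991ac1))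 (.leaf (nat_lit 0x58b67330da9a20f2094484c0001520383c4d68d2580002ac0768916c9361d4e4a3df283e9d7cbcfb69c2eb00000f25970d2ebe7c7c000104948169c7cbafe8920929152125a241209af1b1e00004c6c9d1139622360000a8e146084a082376a0e8f74a0e96dd4d3a9a91f1100003934ba54bae9f1d0000412120ba71d2ebba2472cb8987128e155c208e5b7c0002cde29a45a70b2e00002db6573132e361cd4e312cc294043688232ad124a40000b4e1c9b282a4334000135e29b6ab3cc6f6d41490a9193208c626e0c5994c00005120a72211934140000e2e93503640a947628a4c3cd8310cc352a87388230000294691649901a4e00004e50a4c915a35afad85)))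

noncomputable def tree : BT := t0

noncomputable def row : ℕ → ℕ := rowOf tree (nat_lit 3) (nat_lit 7) (nat_lit 257) (nat_lit 0x1ffffffffffffffffffffffffffffffffffffffffffffffffffffffffffffffff)

noncomputable def cols : List Col := [⟨nat_lit 17, nat_lit 1, [([nat_lit 92], nat_lit 0), ([nat_lit 17, nat_lit 17], nat_lit 0), ([nat_lit 197, nat_lit 92, nat_lit 212], nat_lit 0), ([nat_lit 242, nat_lit 92, nat_lit 227], nat_lit 0), ([nat_lit 212, nat_lit 47, nat_lit 182, nat_lit 137, nat_lit 17, nat_lit 182, nat_lit 122], nat_lit 0)]⟩,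
  ⟨nat_lit 32, nat_lit 1, [([nat_lit 107], nat_lit 0), ([nat_lit 32, nat_lit 32], nat_lit 0), ([nat_lit 182, nat_lit 32, nat_lit 167], nat_lit 0), ([nat_lit 17, nat_lit 107, nat_lit 92], nat_lit 0), ([nat_lit 197, nat_lit 107, nat_lit 212], nat_lit 0), ([nat_lit 92, nat_lit 122, nat_lit 182, nat_lit 92, nat_lit 47, nat_lit 182], nat_lit 0), ([nat_lit 242, nat_lit 107, nat_lit 227], nat_lit 0), ([nat_lit 167, nat_lit 32, nat_lit 182], nat_lit 0)]⟩,
  ⟨nat_lit 47, nat_lit 0, [([nat_lit 122], nat_lit 0), ([nat_lit 137, nat_lit 242, nat_lit 62], nat_lit 0), ([nat_lit 227, nat_lit 137, nat_lit 242], nat_lit 0), ([nat_lit 182, nat_lit 137, nat_lit 17, nat_lit 182, nat_lit 122, nat_lit 17, nat_lit 212], nat_lit 0), ([nat_lit 182, nat_lit 32, nat_lit 92, nat_lit 122, nat_lit 182, nat_lit 92], nat_lit 0)]⟩,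
  ⟨nat_lit 62, nat_lit 0, [([nat_lit 137], nat_lit 0), ([nat_lit 47, nat_lit 137, nat_lit 242], nat_lit 0)]⟩,
  ⟨nat_lit 92, nat_lit 1, [([nat_lit 17], nat_lit 0), ([nat_lit 182, nat_lit 197, nat_lit 167], nat_lit 0), ([nat_lit 167, nat_lit 227, nat_lit 182], nat_lit 0), ([nat_lit 32, nat_lit 17, nat_lit 107], nat_lit 0), ([nat_lit 47, nat_lit 182, nat_lit 32, nat_lit 92, nat_lit 122, nat_lit 182], nat_lit 0)]⟩,
  ⟨nat_lit 107, nat_lit 1, [([nat_lit 32], nat_lit 0), ([nat_lit 92, nat_lit 32, nat_lit 17], nat_lit 0), ([nat_lit 212, nat_lit 32, nat_lit 197], nat_lit 0), ([nat_lit 227, nat_lit 32, nat_lit 242], nat_lit 0)]⟩,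
  ⟨nat_lit 122, nat_lit 0, [([nat_lit 47], nat_lit 0), ([nat_lit 197, nat_lit 182, nat_lit 122, nat_lit 167, nat_lit 212], nat_lit 0), ([nat_lit 182, nat_lit 92, nat_lit 47, nat_lit 182, nat_lit 32, nat_lit 92], nat_lit 0), ([nat_lit 167, nat_lit 212, nat_lit 122, nat_lit 197, nat_lit 182], nat_lit 0)]⟩,
  ⟨nat_lit 137, nat_lit 0, [([nat_lit 242, nat_lit 47, nat_lit 227], nat_lit 0), ([nat_lit 62], nat_lit 0), ([nat_lit 17, nat_lit 182, nat_lit 122, nat_lit 17, nat_lit 212, nat_lit 47, nat_lit 182], nat_lit 0), ([nat_lit 242, nat_lit 62, nat_lit 47], nat_lit 0)]⟩,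
  ⟨nat_lit 167, nat_lit 1, [([nat_lit 182], nat_lit 0), ([nat_lit 92, nat_lit 182, nat_lit 197], nat_lit 0), ([nat_lit 227, nat_lit 182, nat_lit 92], nat_lit 0), ([nat_lit 32, nat_lit 182, nat_lit 32], nat_lit 0), ([nat_lit 197, nat_lit 182, nat_lit 227, nat_lit 17, nat_lit 197], nat_lit 0), ([nat_lit 212, nat_lit 122, nat_lit 197, nat_lit 182, nat_lit 122], nat_lit 0)]⟩,
  ⟨nat_lit 182, nat_lit 1, [([nat_lit 167], nat_lit 0), ([nat_lit 197, nat_lit 167, nat_lit 92], nat_lit 0), ([nat_lit 182, nat_lit 182, nat_lit 182], nat_lit 0), ([nat_lit 92, nat_lit 167, nat_lit 227], nat_lit 0), ([nat_lit 92, nat_lit 47, nat_lit 182, nat_lit 32, nat_lit 92, nat_lit 122], nat_lit 0), ([nat_lit 137, nat_lit 17, nat_lit 182, nat_lit 122, nat_lit 17, nat_lit 212, nat_lit 47], nat_lit 0), ([nat_lit 227, nat_lit 17, nat_lit 197, nat_lit 167, nat_lit 197], nat_lit 0), ([nat_lit 122, nat_lit 167, nat_lit 212, nat_lit 122, nat_lit 197], nat_lit 0)]⟩,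
  ⟨nat_lit 197, nat_lit 1, [([nat_lit 212], nat_lit 0), ([nat_lit 197, nat_lit 197], nat_lit 0), ([nat_lit 167, nat_lit 92, nat_lit 182], nat_lit 0), ([nat_lit 92, nat_lit 212, nat_lit 17], nat_lit 0), ([nat_lit 242, nat_lit 212, nat_lit 227], nat_lit 0), ([nat_lit 182, nat_lit 122, nat_lit 167, nat_lit 212, nat_lit 122], nat_lit 0), ([nat_lit 167, nat_lit 197, nat_lit 182, nat_lit 227, nat_lit 17], nat_lit 0)]⟩,
  ⟨nat_lit 212, nat_lit 1, [([nat_lit 197], nat_lit 0), ([nat_lit 17, nat_lit 197, nat_lit 92], nat_lit 0), ([nat_lit 122, nat_lit 197, nat_lit 182, nat_lit 122, nat_lit 167], nat_lit 0), ([nat_lit 47, nat_lit 182, nat_lit 137, nat_lit 17, nat_lit 182, nat_lit 122, nat_lit 17], nat_lit 0), ([nat_lit 227, nat_lit 197, nat_lit 242], nat_lit 0)]⟩,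
  ⟨nat_lit 227, nat_lit 1, [([nat_lit 242], nat_lit 0), ([nat_lit 227, nat_lit 227], nat_lit 0), ([nat_lit 182, nat_lit 92, nat_lit 167], nat_lit 0), ([nat_lit 137, nat_lit 242, nat_lit 47], nat_lit 0), ([nat_lit 17, nat_lit 242, nat_lit 92], nat_lit 0), ([nat_lit 197, nat_lit 242, nat_lit 212], nat_lit 0), ([nat_lit 17, nat_lit 197, nat_lit 167, nat_lit 197, nat_lit 182], nat_lit 0)]⟩,
  ⟨nat_lit 242, nat_lit 1, [([nat_lit 227], nat_lit 0), ([nat_lit 92, nat_lit 227, nat_lit 17], nat_lit 0), ([nat_lit 62, nat_lit 47, nat_lit 137], nat_lit 0), ([nat_lit 107, nat_lit 227, nat_lit 32], nat_lit 0), ([nat_lit 212, nat_lit 227, nat_lit 197], nat_lit 0), ([nat_lit 47, nat_lit 227, nat_lit 137], nat_lit 0)]⟩]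

noncomputable def erots : List (List ℕ × ℕ) := []

noncomputable def gens : List ℕ := [nat_lit 17, nat_lit 32, nat_lit 47, nat_lit 62, nat_lit 92, nat_lit 107, nat_lit 122, nat_lit 137, nat_lit 167, nat_lit 182, nat_lit 197, nat_lit 212, nat_lit 227, nat_lit 242]

noncomputable def chk : ℕ → Bool := chkRow0 row (nat_lit 36) (nat_lit 0x3f) (nat_lit 0x7c0) (nat_lit 11) (nat_lit 0xf) (nat_lit 0) (nat_lit 0x3f) (nat_lit 6) (nat_lit 0x1ff) (nat_lit 0x18000) [] cols gens

theorem b0 : allR chk 6 0 = true := by decide +kernel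

noncomputable def T : CT := ⟨row, nat_lit 36, nat_lit 36, nat_lit 0x3f, nat_lit 0x7c0, nat_lit 11, nat_lit 0xf, nat_lit 0, nat_lit 0x3f, nat_lit 6, nat_lit 0x1ff, nat_lit 0x18000, nat_lit 257, nat_lit 257, nat_lit 0, nat_lit 8, [], cols, erots, gens⟩

theorem all : ∀ c < 36, chk c = true := fun c hc =>
  allR_glue (d := 6) (n := 1) (forall_lt_succ' forall_lt_zero' b0) c (lt_of_lt_of_le hc (by norm_num))

/-- the relators used -/
def R : List (List ℕ) := [[nat_lit 0, nat_lit 5],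
  [nat_lit 1, nat_lit 6],
  [nat_lit 2, nat_lit 7],
  [nat_lit 3, nat_lit 8],
  [nat_lit 10, nat_lit 11],
  [nat_lit 12, nat_lit 13],
  [nat_lit 14, nat_lit 15],
  [nat_lit 10, nat_lit 5, nat_lit 11, nat_lit 12],
  [nat_lit 11, nat_lit 5, nat_lit 10, nat_lit 14],
  [nat_lit 12, nat_lit 12, nat_lit 12],
  [nat_lit 0, nat_lit 0, nat_lit 0],
  [nat_lit 1, nat_lit 1, nat_lit 1],
  [nat_lit 14, nat_lit 14, nat_lit 14],
  [nat_lit 0, nat_lit 12, nat_lit 5, nat_lit 13],
  [nat_lit 1, nat_lit 0, nat_lit 6, nat_lit 5],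
  [nat_lit 1, nat_lit 12, nat_lit 6, nat_lit 13],
  [nat_lit 14, nat_lit 0, nat_lit 15, nat_lit 5],
  [nat_lit 14, nat_lit 1, nat_lit 15, nat_lit 6],
  [nat_lit 14, nat_lit 12, nat_lit 15, nat_lit 13],
  [nat_lit 10, nat_lit 1, nat_lit 11, nat_lit 1],
  [nat_lit 11, nat_lit 11, nat_lit 11, nat_lit 11],
  [nat_lit 10, nat_lit 12, nat_lit 11, nat_lit 14, nat_lit 0, nat_lit 12],
  [nat_lit 2, nat_lit 14, nat_lit 8, nat_lit 15],
  [nat_lit 3, nat_lit 2, nat_lit 8, nat_lit 15],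
  [nat_lit 7, nat_lit 12, nat_lit 11, nat_lit 7, nat_lit 10, nat_lit 13],
  [nat_lit 7, nat_lit 11, nat_lit 5, nat_lit 2, nat_lit 11, nat_lit 1, nat_lit 5],
  [nat_lit 2, nat_lit 11, nat_lit 8, nat_lit 0, nat_lit 11, nat_lit 7, nat_lit 0, nat_lit 13]]

theorem cert : Cert T (R.map fun r => (r, 0)) ([0, 1, 5, 6, 10, 11, 12, 13, 14, 15].map fun y => (y, 0)) 17 15 [0, 1, 2, 3, 5, 6, 7, 8, 10, 11, 12, 13, 14, 15] :=
  ⟨by decide +kernel, ⟨[[(0, 0), (10, 0), (13, 0), (16, 1), (26, 6)], [(1, 0), (11, 0), (19, 1), (14, 0), (15, 0), (25, 5), (17, 1), (19, 3)], [(2, 0), (23, 1), (22, 0), (26, 0), (25, 3)], [(3, 0), (23, 0)], [(0, 1), (7, 1), (8, 1), (14, 3), (25, 2)], [(1, 1), (14, 2), (15, 2), (17, 3)], [(2, 1), (24, 0), (25, 0), (24, 3)], [(22, 2), (3, 1), (26, 2), (23, 2)], [(4, 0), (7, 0), (8, 2), (19, 0), (21, 0), (24, 4)], [(4, 1), (7, 2), (20, 0), (8, 0), (25, 1), (26, 1), (21, 2), (24, 2)], [(5, 0), (9, 0), (7, 3), (13, 1), (18, 1),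 (24, 1), (21, 5)], [(5, 1), (13, 3), (24, 5), (26, 7), (18, 3)], [(6, 0), (12, 0), (8, 3), (22, 1), (16, 0), (18, 0), (21, 3)], [(6, 1), (16, 2), (23, 3), (17, 2), (18, 2), (22, 3)]], [], by decide +kernel⟩, by decide +kernel, Or.inl ⟨rfl, all⟩⟩

theorem bound {Γ : Type*} [Group Γ] {x : ℕ → Γ} (hR : ∀ r ∈ R, ev x r = 1) {n : ℕ}
    (h : CardLe x [0, 1, 5, 6, 10, 11, 12, 13, 14, 15] n) : CardLe x [0, 1, 2, 3, 5, 6, 7, 8, 10, 11, 12, 13, 14, 15] (36 * n) :=
  cert.cardLe rfl hR h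

end Cfsg.Agent.H3.U43.Tc1
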