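import Cfsg.Agent.L0.CosetChain

/-! Generated coset table certificate. -/

set_option autoImplicit false
set_option maxRecDepth 100000

open Cfsg.Agent.L0

namespace Cfsg.Agent.H3.U43.Tc2

noncomputable def t0 : BT := .leaf (nat_lit 0xa49caca48a9b000000a49c0000009ca4974d5f1cdc9ea448000004de980000069cdaca26a4a6b4a24100000026a480000024a695d082828282060400000082820000008282000)

noncomputable def tree : BT := t0

noncomputable def row : ℕ → ℕ := rowOf tree (nat_lit 3) (nat_lit 7) (nat_lit 141) (nat_lit 0x1fffffffffffffffffffffffffffffffffff)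

noncomputable def cols : List Col := [⟨nat_lit 13, nat_lit 1, [([nat_lit 53], nat_lit 0)]⟩,
  ⟨nat_lit 21, nat_lit 1, [([nat_lit 101, nat_lit 21, nat_lit 93], nat_lit 0), ([nat_lit 93, nat_lit 21, nat_lit 101], nat_lit 0)]⟩,
  ⟨nat_lit 53, nat_lit 1, [([nat_lit 101, nat_lit 109, nat_lit 93], nat_lit 0), ([nat_lit 93, nat_lit 125, nat_lit 101], nat_lit 0)]⟩,
  ⟨nat_lit 61, nat_lit 1, [([nat_lit 21], nat_lit 0)]⟩,
  ⟨nat_lit 93, nat_lit 0, [([nat_lit 101], nat_lit 0)]⟩,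
  ⟨nat_lit 101, nat_lit 0, [([nat_lit 93], nat_lit 0), ([nat_lit 101, nat_lit 101, nat_lit 101], nat_lit 0)]⟩,
  ⟨nat_lit 109, nat_lit 1, [([nat_lit 93, nat_lit 53, nat_lit 101], nat_lit 0), ([nat_lit 101, nat_lit 125, nat_lit 13, nat_lit 109, nat_lit 93], nat_lit 0)]⟩,
  ⟨nat_lit 117, nat_lit 1, [([nat_lit 109], nat_lit 0)]⟩,
  ⟨nat_lit 125, nat_lit 1, [([nat_lit 101, nat_lit 53, nat_lit 93], nat_lit 0), ([nat_lit 13, nat_lit 109, nat_lit 93, nat_lit 109, nat_lit 101], nat_lit 0)]⟩,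
  ⟨nat_lit 133, nat_lit 1, [([nat_lit 125], nat_lit 0)]⟩]

noncomputable def erots : List (List ℕ × ℕ) := []

noncomputable def gens : List ℕ := [nat_lit 13, nat_lit 21, nat_lit 53, nat_lit 61, nat_lit 93, nat_lit 101, nat_lit 109, nat_lit 117, nat_lit 125, nat_lit 133]

noncomputable def chk : ℕ → Bool := chkRow0 row (nat_lit 4) (nat_lit 0x7) (nat_lit 0x38) (nat_lit 6) (nat_lit 0x3) (nat_lit 0) (nat_lit 0x7) (nat_lit 3) (nat_lit 0xff) (nat_lit 0x1800) [] cols gens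

theorem b0 : allR chk 2 0 = true := by decide +kernel

noncomputable def T : CT := ⟨row, nat_lit 4, nat_lit 4, nat_lit 0x7, nat_lit 0x38, nat_lit 6, nat_lit 0x3, nat_lit 0, nat_lit 0x7, nat_lit 3, nat_lit 0xff, nat_lit 0x1800, nat_lit 141, nat_lit 141, nat_lit 0, nat_lit 6, [], cols, erots, gens⟩

theorem all : ∀ c < 4, chk c = true := fun c hc =>
  allR_glue (d := 2) (n := 1) (forall_lt_succ' forall_lt_zero' b0) c (lt_of_lt_of_le hc (by norm_num))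

/-- the relators used -/
def R : List (List ℕ) := [[nat_lit 0, nat_lit 5],
  [nat_lit 1, nat_lit 6],
  [nat_lit 10, nat_lit 11],
  [nat_lit 12, nat_lit 13],
  [nat_lit 14, nat_lit 15],
  [nat_lit 10, nat_lit 5, nat_lit 11, nat_lit 12],
  [nat_lit 11, nat_lit 5, nat_lit 10, nat_lit 14],
  [nat_lit 10, nat_lit 1, nat_lit 11, nat_lit 1],
  [nat_lit 11, nat_lit 11, nat_lit 11, nat_lit 11],
  [nat_lit 10, nat_lit 12, nat_lit 11, nat_lit 14, nat_lit 0, nat_lit 12]]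

theorem cert : Cert T (R.map fun r => (r, 0)) ([0, 1, 5, 6, 12, 13, 14, 15].map fun y => (y, 0)) 13 8 [0, 1, 5, 6, 10, 11, 12, 13, 14, 15] :=
  ⟨by decide +kernel, ⟨[[(0, 0)], [(7, 1), (7, 3)], [(5, 1), (6, 1)], [(1, 1)], [(2, 0)], [(2, 1), (8, 0)], [(5, 3), (9, 1)], [(3, 1)], [(6, 3), (9, 3)], [(4, 1)]], [], by decide +kernel⟩, by decide +kernel, Or.inl ⟨rfl, all⟩⟩

theorem bound {Γ : Type*} [Group Γ] {x : ℕ → Γ} (hR : ∀ r ∈ R, ev x r = 1) {n : ℕ}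
    (h : CardLe x [0, 1, 5, 6, 12, 13, 14, 15] n) : CardLe x [0, 1, 5, 6, 10, 11, 12, 13, 14, 15] (4 * n) :=
  cert.cardLe rfl hR h

end Cfsg.Agent.H3.U43.Tc2
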