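import Cfsg.Agent.L0.CosetChain

/-! Generated coset table certificate. -/

set_option autoImplicit false
set_option maxRecDepth 100000

open Cfsg.Agent.L0

namespace Cfsg.Agent.H3.U43.Tc3

noncomputable def t0 : BT := .node (.node (.leaf (nat_lit 0x150144a868800000000000000042246300000000064966c86c28cc84348e8ce000000000000000ca70a20000000008dc8d6e18108591d19a9180000000000000011c91c0000000002136129b70009809422a32800000000000000231b27800000000210a34aae001101064446400000000000000000f462000000000a4c42152c001c01a8c7086000000000000000842018000000000c8b4908d8002c0291899080000000000000000250840000000000219110f00038031009008000000000000000028020000000000018010000)) (.leaf (nat_lit 0x42c6595387180000000000000004b04d40000000006ba84dedd68ec85316e9ae0000000000000011aad260000000008d69b7e1a10a595d4d9c58000000000000001251248000000002129a6bb7423a21455aa6a800000000000000325c3700000000027ba5cf8674286554f46d400000000000000046a4ad0000000006766b8edce8e484b126966000000000000000cdcd360000000008ce96f619109594d3ca34800000000000000123526800000000211a1dab72238212348a5880000000000000032dc3580000000024ca33d863)))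 (.node (.leaf (nat_lit 0x4246514f06d000000000000000047a48a000000000a98846adc6036034d1e95e000000000000000918cd20000000008488cb2b8d1b508e9b923800000000000000191e16400000000124d256c31211b27256c4680000000000000023323c00000000033954a56e201901866c48c00000000000000046448800000000066f42392c48d48454d6916000000000000000caf08e0000000008ea923618508992d2a9a280000000000000011d91980000000021519c2b7080b80b434a44800000000000000234322800000000211247cae1)) (.leaf (nat_lit 0x8f485edb69f6000000000000001232d6e0000000008e2967e1b90bd96d5e9d680000000000000013612d80000000021421cbb7723c21635ca6c800000000000000338c4a80000000029da37786b)))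

noncomputable def tree : BT := t0

noncomputable def row : ℕ → ℕ := rowOf tree (nat_lit 3) (nat_lit 7) (nat_lit 207) (nat_lit 0x7fffffffffffffffffffffffffffffffffffffffffffffffffff)

noncomputable def cols : List Col := [⟨nat_lit 15, nat_lit 0, [([nat_lit 75], nat_lit 0), ([nat_lit 15, nat_lit 15], nat_lit 0), ([nat_lit 195, nat_lit 75, nat_lit 183], nat_lit 0), ([nat_lit 87, nat_lit 75, nat_lit 27], nat_lit 0)]⟩,
  ⟨nat_lit 27, nat_lit 0, [([nat_lit 87], nat_lit 0), ([nat_lit 27, nat_lit 27], nat_lit 0), ([nat_lit 195, nat_lit 87, nat_lit 183], nat_lit 0), ([nat_lit 15, nat_lit 87, nat_lit 75], nat_lit 0)]⟩,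
  ⟨nat_lit 75, nat_lit 0, [([nat_lit 15], nat_lit 0), ([nat_lit 27, nat_lit 15, nat_lit 87], nat_lit 0), ([nat_lit 183, nat_lit 15, nat_lit 195], nat_lit 0)]⟩,
  ⟨nat_lit 87, nat_lit 0, [([nat_lit 27], nat_lit 0), ([nat_lit 183, nat_lit 27, nat_lit 195], nat_lit 0), ([nat_lit 75, nat_lit 27, nat_lit 15], nat_lit 0)]⟩,
  ⟨nat_lit 159, nat_lit 1, [([nat_lit 171], nat_lit 0), ([nat_lit 75, nat_lit 171, nat_lit 15], nat_lit 0), ([nat_lit 87, nat_lit 171, nat_lit 27], nat_lit 0), ([nat_lit 195, nat_lit 171, nat_lit 183], nat_lit 0)]⟩,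
  ⟨nat_lit 171, nat_lit 1, [([nat_lit 159], nat_lit 0), ([nat_lit 15, nat_lit 159, nat_lit 75], nat_lit 0), ([nat_lit 27, nat_lit 159, nat_lit 87], nat_lit 0), ([nat_lit 183, nat_lit 159, nat_lit 195], nat_lit 0)]⟩,
  ⟨nat_lit 183, nat_lit 0, [([nat_lit 195], nat_lit 0), ([nat_lit 183, nat_lit 183], nat_lit 0)]⟩,
  ⟨nat_lit 195, nat_lit 0, [([nat_lit 183], nat_lit 0)]⟩]

noncomputable def erots : List (List ℕ × ℕ) := []

noncomputable def gens : List ℕ := [nat_lit 15, nat_lit 27, nat_lit 75, nat_lit 87, nat_lit 159, nat_lit 171, nat_lit 183, nat_lit 195]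

noncomputable def chk : ℕ → Bool := chkRow0 row (nat_lit 27) (nat_lit 0x1f) (nat_lit 0x1e0) (nat_lit 9) (nat_lit 0x7) (nat_lit 0) (nat_lit 0x1f) (nat_lit 5) (nat_lit 0xff) (nat_lit 0x6000) [] cols gens

theorem b0 : allR chk 5 0 = true := by decide +kernel

noncomputable def T : CT := ⟨row, nat_lit 27, nat_lit 27, nat_lit 0x1f, nat_lit 0x1e0, nat_lit 9, nat_lit 0x7, nat_lit 0, nat_lit 0x1f, nat_lit 5, nat_lit 0xff, nat_lit 0x6000, nat_lit 207, nat_lit 207, nat_lit 0, nat_lit 4, [], cols, erots, gens⟩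

theorem all : ∀ c < 27, chk c = true := fun c hc =>
  allR_glue (d := 5) (n := 1) (forall_lt_succ' forall_lt_zero' b0) c (lt_of_lt_of_le hc (by norm_num))

/-- the relators used -/
def R : List (List ℕ) := [[nat_lit 0, nat_lit 5],
  [nat_lit 1, nat_lit 6],
  [nat_lit 12, nat_lit 13],
  [nat_lit 14, nat_lit 15],
  [nat_lit 0, nat_lit 0, nat_lit 0],
  [nat_lit 1, nat_lit 1, nat_lit 1],
  [nat_lit 14, nat_lit 14, nat_lit 14],
  [nat_lit 0, nat_lit 12, nat_lit 5, nat_lit 13],
  [nat_lit 1, nat_lit 0, nat_lit 6, nat_lit 5],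
  [nat_lit 1, nat_lit 12, nat_lit 6, nat_lit 13],
  [nat_lit 14, nat_lit 0, nat_lit 15, nat_lit 5],
  [nat_lit 14, nat_lit 1, nat_lit 15, nat_lit 6],
  [nat_lit 14, nat_lit 12, nat_lit 15, nat_lit 13]]

theorem cert : Cert T (R.map fun r => (r, 0)) ([12, 13].map fun y => (y, 0)) 15 12 [0, 1, 5, 6, 12, 13, 14, 15] :=
  ⟨by decide +kernel, ⟨[[(0, 0), (4, 0), (10, 1), (8, 1)], [(1, 0), (5, 0), (11, 1), (8, 0)], [(0, 1), (8, 3), (10, 3)], [(1, 1), (11, 3), (8, 2)], [(2, 0), (7, 1), (9, 1), (12, 1)], [(2, 1), (7, 3), (9, 3), (12, 3)], [(3, 0), (6, 0)], [(3, 1)]], [], by decide +kernel⟩, by decide +kernel, Or.inl ⟨rfl, all⟩⟩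

theorem bound {Γ : Type*} [Group Γ] {x : ℕ → Γ} (hR : ∀ r ∈ R, ev x r = 1) {n : ℕ}
    (h : CardLe x [12, 13] n) : CardLe x [0, 1, 5, 6, 12, 13, 14, 15] (27 * n) :=
  cert.cardLe rfl hR h

end Cfsg.Agent.H3.U43.Tc3
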